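import Mathlib

/-!
Local structure of a strongly regular graph with parameters (77, 16, 0, 4).
-/

set_option autoImplicit false

namespace Cfsg.Lib.Srg77

open Finset

variable {V : Type*} [Fintype V] [DecidableEq V] {G : SimpleGraph V} [DecidableRel G.Adj]

/-- The adjacency as an integer. -/
def adjZ (G : SimpleGraph V) [DecidableRel G.Adj] (u w : V) : ℤ := if G.Adj u w then 1 else 0

/-- An indicator as an integer. -/
def indZ (P : Prop) [Decidable P] : ℤ := if P then 1 else 0

/-- The common neighbours. -/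
def cn (G : SimpleGraph V) [DecidableRel G.Adj] (u w : V) : Finset V := univ.filter fun p => G.Adj u p ∧ G.Adj w p

/-- The neighbours. -/
def nb (G : SimpleGraph V) [DecidableRel G.Adj] (u : V) : Finset V := univ.filter fun p => G.Adj u p

/-- The same class with respect to a base point. -/
def sameCls (G : SimpleGraph V) [DecidableRel G.Adj] (x y z : V) : Prop :=
  z = y ∨ (¬ G.Adj y z ∧ Disjoint (cn G x y) (cn G x z))

variable (hG : G.IsSRGWith 77 16 0 4)

include hG

theorem card_nb (u : V) : (nb G u).card = 16 := by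
  have h : G.degree u = 16 := hG.regular u
  rw [← h, ← SimpleGraph.card_neighborFinset_eq_degree]
  congr 1
  ext p
  simp [nb]

theorem card_cn {u w : V} (h : u ≠ w) : (cn G u w).card = if G.Adj u w then 0 else 4 := by
  have e : (cn G u w).card = Fintype.card (G.commonNeighbors u w) := by
    rw [← Set.toFinset_card]
    congr 1
    ext x
    simp [cn, SimpleGraph.mem_commonNeighbors]
  rw [e]
  split
  · rename_i ha; exact hG.of_adj u w ha
  · rename_i ha; exact hG.of_not_adj h ha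

theorem card_cn_four {u w : V} (h : u ≠ w) (ha : ¬ G.Adj u w) : (cn G u w).card = 4 := by
  rw [card_cn hG h, if_neg ha]

theorem no_triangle {u v w : V} (h1 : G.Adj u v) (h2 : G.Adj u w) : ¬ G.Adj v w := fun h3 => by
  have h := card_cn hG h1.ne
  rw [if_pos h1, card_eq_zero] at h
  have hw : w ∈ cn G u v := mem_filter.2 ⟨mem_univ _, h2, h3⟩
  rw [h] at hw
  exact absurd hw (notMem_empty _)

/-- The positive semidefinite form of the graph. -/
theorem form_nonneg (v : V → ℤ) :
    0 ≤ 22 * (∑ u, v u * v u) - 11 * (∑ u, v u * ∑ w, adjZ G u w * v w) + 2 * (∑ u, v u) * (∑ u, v u) := by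
  set Av : V → ℤ := fun u => ∑ w, adjZ G u w * v w with hAv
  set S := ∑ u, v u with hS
  set N := ∑ u, v u * v u with hN
  set T := ∑ u, v u * Av u with hT
  have hrow : ∀ w, ∑ u, adjZ G u w = 16 := by
    intro w
    rw [show ∑ u, adjZ G u w = ((univ.filter fun u => G.Adj u w).card : ℤ) by
      rw [← Finset.sum_boole]; rfl]
    have := card_nb hG w
    rw [show (univ.filter fun u => G.Adj u w) = nb G w by ext u; simp [nb, G.adj_comm u w]]
    exact_mod_cast this
  have h1 : ∑ u, Av u = 16 * S := by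
    rw [hAv, sum_comm, mul_sum]
    exact sum_congr rfl fun w _ => by rw [← sum_mul, hrow]
  have hcommon : ∀ w w', ∑ u, adjZ G u w * adjZ G u w' =
      12 * indZ (w' = w) - 4 * adjZ G w w' + 4 := by
    intro w w'
    have e : ∑ u, adjZ G u w * adjZ G u w' = ((cn G w w').card : ℤ) := by
      rw [cn, ← Finset.sum_boole]
      refine sum_congr rfl fun u _ => ?_
      unfold adjZ
      simp only [G.adj_comm u w, G.adj_comm u w']
      by_cases a : G.Adj w u <;> by_cases b : G.Adj w' u <;> simp [a, b]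
    rw [e]
    by_cases hw : w' = w
    · subst hw
      rw [show cn G w' w' = nb G w' by ext; simp [cn, nb], card_nb hG]
      simp [indZ, adjZ]
    · rw [card_cn hG (Ne.symm hw)]
      by_cases ha : G.Adj w w' <;> simp [indZ, adjZ, hw, ha]
  have h2 : ∑ u, Av u * Av u = 12 * N - 4 * T + 4 * (S * S) := by
    calc ∑ u, Av u * Av u = ∑ u, ∑ w, ∑ w', (adjZ G u w * adjZ G u w') * (v w * v w') := by
          refine sum_congr rfl fun u _ => ?_
          rw [hAv, sum_mul_sum]
          exact sum_congr rfl fun w _ => sum_congr rfl fun w' _ => by ring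
      _ = ∑ w, ∑ w', (12 * indZ (w' = w) - 4 * adjZ G w w' + 4) * (v w * v w') := by
          rw [sum_comm]
          refine sum_congr rfl fun w _ => ?_
          rw [sum_comm]
          exact sum_congr rfl fun w' _ => by rw [← sum_mul, hcommon]
      _ = _ := by
          rw [hN, hT, hS, sum_mul_sum, mul_sum, mul_sum, mul_sum, ← sum_sub_distrib, ← sum_add_distrib]
          refine sum_congr rfl fun w _ => ?_
          simp only [hAv, mul_sum, indZ, add_mul, sub_mul, sum_add_distrib, sum_sub_distrib]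
          simp only [mul_ite, ite_mul, mul_one, mul_zero, zero_mul, sum_ite_eq', mem_univ, if_true]
          congr 1
          congr 1
          exact sum_congr rfl fun w' _ => by ring
  have key : ∑ u, (11 * (2 * v u - Av u) + 2 * S) * (11 * (2 * v u - Av u) + 2 * S) =
      88 * (22 * N - 11 * T + 2 * S * S) := by
    have e : ∀ u, (11 * (2 * v u - Av u) + 2 * S) * (11 * (2 * v u - Av u) + 2 * S) =
        484 * (v u * v u) - 484 * (v u * Av u) + 121 * (Av u * Av u) + 88 * S * v u - 44 * S * Av u + 4 * (S * S) :=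
      fun u => by ring
    simp only [e, sum_add_distrib, sum_sub_distrib, ← mul_sum, sum_const, card_univ, hG.card, nsmul_eq_mul,
      h1, h2, ← hN, ← hT, ← hS]
    push_cast
    ring
  have h0 : 0 ≤ ∑ u, (11 * (2 * v u - Av u) + 2 * S) * (11 * (2 * v u - Av u) + 2 * S) :=
    sum_nonneg fun u _ => mul_self_nonneg _
  rw [key] at h0
  linarith

/-- The form on a few roots and a set of weighted further vertices. -/
theorem form_test {k : ℕ} (r : Fin k → V) (hr : Function.Injective r) (a : Fin k → ℤ) (W : Finset V) (c : V → ℤ)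
    (hW : ∀ i, r i ∉ W) (hWW : ∀ u ∈ W, ∀ w ∈ W, 0 ≤ adjZ G u w * (c u * c w)) :
    0 ≤ 22 * ((∑ i, a i * a i) + ∑ w ∈ W, c w * c w) -
      11 * ((∑ i, a i * ∑ j, adjZ G (r i) (r j) * a j) + 2 * ∑ w ∈ W, c w * ∑ i, adjZ G (r i) w * a i) +
      2 * ((∑ i, a i) + ∑ w ∈ W, c w) * ((∑ i, a i) + ∑ w ∈ W, c w) := by
  set v : V → ℤ := fun u => (∑ i, if r i = u then a i else 0) + (if u ∈ W then c u else 0) with hv
  have hvr : ∀ i, v (r i) = a i := by
    intro i
    simp only [hv, if_neg (hW i), add_zero]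
    rw [Finset.sum_eq_single i (fun j _ hj => if_neg (hr.ne hj)) (by simp), if_pos rfl]
  have hvW : ∀ u ∈ W, v u = c u := by
    intro u hu
    simp only [hv, if_pos hu]
    rw [Finset.sum_eq_zero fun i _ => if_neg fun e => hW i (by rw [e]; exact hu), zero_add]
  have hsum : ∀ F : V → ℤ, ∑ u, v u * F u = (∑ i, a i * F (r i)) + ∑ u ∈ W, c u * F u := by
    intro F
    simp only [hv, add_mul, sum_add_distrib, sum_mul, ite_mul, zero_mul]
    rw [sum_comm]
    simp [Finset.sum_ite_mem]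
  have s1 : ∑ u, v u = (∑ i, a i) + ∑ u ∈ W, c u := by simpa using hsum fun _ => 1
  have s2 : ∑ u, v u * v u = (∑ i, a i * a i) + ∑ u ∈ W, c u * c u := by
    rw [hsum v]
    simp only [hvr]
    exact congrArg _ (sum_congr rfl fun u hu => by rw [hvW u hu])
  have hrow : ∀ u, ∑ w, adjZ G u w * v w = (∑ j, adjZ G u (r j) * a j) + ∑ w ∈ W, adjZ G u w * c w := by
    intro u
    rw [show ∑ w, adjZ G u w * v w = ∑ w, v w * adjZ G u w from sum_congr rfl fun w _ => mul_comm _ _,
      hsum fun w => adjZ G u w]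
    congr 1 <;> exact sum_congr rfl fun w _ => mul_comm _ _
  have hflip : ∑ i, a i * ∑ w ∈ W, adjZ G (r i) w * c w = ∑ w ∈ W, c w * ∑ i, adjZ G (r i) w * a i := by
    simp only [mul_sum]
    rw [sum_comm]
    exact sum_congr rfl fun w _ => sum_congr rfl fun i _ => by ring
  have hflip2 : ∑ u ∈ W, c u * ∑ j, adjZ G u (r j) * a j = ∑ w ∈ W, c w * ∑ i, adjZ G (r i) w * a i :=
    sum_congr rfl fun u _ => congrArg _ (sum_congr rfl fun i _ => by
      unfold adjZ; simp only [G.adj_comm u (r i)])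
  have s3 : ∑ u, v u * ∑ w, adjZ G u w * v w =
      (∑ i, a i * ∑ j, adjZ G (r i) (r j) * a j) + 2 * (∑ w ∈ W, c w * ∑ i, adjZ G (r i) w * a i) +
        ∑ u ∈ W, c u * ∑ w ∈ W, adjZ G u w * c w := by
    rw [hsum fun u => ∑ w, adjZ G u w * v w]
    simp only [hrow, mul_add, sum_add_distrib]
    rw [hflip, hflip2]
    ring
  have hpos : 0 ≤ ∑ u ∈ W, c u * ∑ w ∈ W, adjZ G u w * c w := by
    simp only [mul_sum]
    refine sum_nonneg fun u hu => sum_nonneg fun w hw => ?_
    have := hWW u hu w hw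
    linarith
  have h := form_nonneg hG v
  rw [s1, s2, s3] at h
  linarith

omit hG in
theorem sum_indZ (W : Finset V) (P : V → Prop) [DecidablePred P] :
    ∑ w ∈ W, indZ (P w) = ((W.filter P).card : ℤ) := by
  rw [← Finset.sum_boole]; rfl

theorem nb_indep {x u w : V} (hu : u ∈ nb G x) (hw : w ∈ nb G x) : adjZ G u w = 0 := by
  rw [adjZ, if_neg (no_triangle hG (mem_filter.1 hu).2 (mem_filter.1 hw).2)]

/-- Three mutually non-adjacent vertices have at most two common neighbours. -/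
theorem triple_le {x y z : V} (hxy : x ≠ y) (hxz : x ≠ z) (hyz : y ≠ z) (nxy : ¬ G.Adj x y) (nxz : ¬ G.Adj x z)
    (nyz : ¬ G.Adj y z) : (cn G x y ∩ cn G x z).card ≤ 2 := by
  by_contra hlt
  rw [not_le] at hlt
  set r : Fin 3 → V := ![x, y, z] with hrdef
  have hr : Function.Injective r := by
    intro i j h
    fin_cases i <;> fin_cases j <;> simp_all [hrdef, eq_comm]
  set W : Finset V := ((univ.erase x).erase y).erase z with hWdef
  set c : V → ℤ := fun w => indZ (G.Adj x w ∧ G.Adj y w) + indZ (G.Adj x w ∧ G.Adj z w) +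
    indZ (G.Adj y w ∧ G.Adj z w) - indZ (G.Adj x w ∧ G.Adj y w ∧ G.Adj z w) with hc
  have hc0 : ∀ w, 0 ≤ c w := fun w => by
    simp only [hc, indZ]
    by_cases p : G.Adj x w <;> by_cases q : G.Adj y w <;> by_cases s : G.Adj z w <;> simp [p, q, s]
  have h := form_test hG r hr (fun _ => 2) W c
    (by intro i; fin_cases i <;> simp [hrdef, hWdef])
    (fun u _ w _ => mul_nonneg (by unfold adjZ; split <;> norm_num) (mul_nonneg (hc0 u) (hc0 w)))
  have cpair : ∀ u v : V, (u = x ∨ u = y ∨ u = z) → (v = x ∨ v = y ∨ v = z) → u ≠ v → ¬ G.Adj u v →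
      ∑ w ∈ W, indZ (G.Adj u w ∧ G.Adj v w) = 4 := by
    intro u v hu hv huv ha
    rw [sum_indZ]
    have : W.filter (fun w => G.Adj u w ∧ G.Adj v w) = cn G u v := by
      ext w
      simp only [hWdef, cn, mem_filter, mem_erase, mem_univ, and_true, true_and]
      refine ⟨fun h => h.2, fun hw => ⟨⟨?_, ?_, ?_⟩, hw⟩⟩ <;> rintro rfl <;>
        rcases hu with rfl | rfl | rfl <;> rcases hv with rfl | rfl | rfl <;>
        simp_all [G.adj_comm]
    rw [this, card_cn_four hG huv ha]
    rfl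
  have ctri : ∑ w ∈ W, indZ (G.Adj x w ∧ G.Adj y w ∧ G.Adj z w) = ((cn G x y ∩ cn G x z).card : ℤ) := by
    rw [sum_indZ]
    congr 2
    ext w
    simp only [hWdef, cn, mem_filter, mem_inter, mem_erase, mem_univ, and_true, true_and]
    refine ⟨fun h => ⟨⟨h.2.1, h.2.2.1⟩, h.2.1, h.2.2.2⟩, fun h => ⟨⟨?_, ?_, ?_⟩, h.1.1, h.1.2, h.2.2⟩⟩ <;>
      rintro rfl <;> simp_all [G.adj_comm]
  have p1 := cpair x y (by tauto) (by tauto) hxy nxy
  have p2 := cpair x z (by tauto) (by tauto) hxz nxz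
  have p3 := cpair y z (by tauto) (by tauto) hyz nyz
  have t4 : ((cn G x y ∩ cn G x z).card : ℤ) ≤ 4 := by
    have := card_le_card (inter_subset_left (s₁ := cn G x y) (s₂ := cn G x z))
    rw [card_cn_four hG hxy nxy] at this
    exact_mod_cast this
  set t : ℤ := ((cn G x y ∩ cn G x z).card : ℤ)
  have t3 : 3 ≤ t := by simp only [t]; exact_mod_cast hlt
  have sc : ∑ w ∈ W, c w = 12 - t := by
    simp only [hc, sum_add_distrib, sum_sub_distrib, p1, p2, p3, ctri]; ring
  have scc : ∑ w ∈ W, c w * c w = 12 + t := by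
    have e : ∀ w, c w * c w = indZ (G.Adj x w ∧ G.Adj y w) + indZ (G.Adj x w ∧ G.Adj z w) +
        indZ (G.Adj y w ∧ G.Adj z w) + indZ (G.Adj x w ∧ G.Adj y w ∧ G.Adj z w) := fun w => by
      simp only [hc, indZ]
      by_cases p : G.Adj x w <;> by_cases q : G.Adj y w <;> by_cases s : G.Adj z w <;> simp [p, q, s]
    simp only [e, sum_add_distrib, p1, p2, p3, ctri]; ring
  have sx : ∑ w ∈ W, c w * ∑ i, adjZ G (r i) w * 2 = 48 := by
    have e : ∀ w, c w * ∑ i, adjZ G (r i) w * 2 = 4 * indZ (G.Adj x w ∧ G.Adj y w) +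
        4 * indZ (G.Adj x w ∧ G.Adj z w) + 4 * indZ (G.Adj y w ∧ G.Adj z w) := fun w => by
      simp only [hc, indZ, hrdef, adjZ, Fin.sum_univ_three, Matrix.cons_val_zero, Matrix.cons_val_one,
        Matrix.cons_val_two, Matrix.head_cons, Matrix.tail_cons]
      by_cases p : G.Adj x w <;> by_cases q : G.Adj y w <;> by_cases s : G.Adj z w <;> simp [p, q, s]
    simp only [e, sum_add_distrib, ← mul_sum, p1, p2, p3]; norm_num
  rw [sc, scc, sx] at h
  simp only [hrdef, Fin.sum_univ_three, Matrix.cons_val_zero, Matrix.cons_val_one, Matrix.cons_val_two,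
    Matrix.head_cons, Matrix.tail_cons, adjZ, nxy, nxz, nyz, SimpleGraph.irrefl,
    show ¬ G.Adj y x from fun h => nxy h.symm, show ¬ G.Adj z x from fun h => nxz h.symm,
    show ¬ G.Adj z y from fun h => nyz h.symm, if_false] at h
  nlinarith

omit hG in
theorem sum_nb_cn (x u : V) : ∑ w ∈ nb G x, indZ (G.Adj u w) = ((cn G x u).card : ℤ) := by
  rw [sum_indZ]
  congr 2
  ext w
  simp [nb, cn]

omit hG in
theorem sum_nb_cn₂ (x u v : V) :
    ∑ w ∈ nb G x, indZ (G.Adj u w ∧ G.Adj v w) = ((cn G x u ∩ cn G x v).card : ℤ) := by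
  rw [sum_indZ]
  congr 2
  ext w
  simp only [nb, cn, mem_filter, mem_univ, true_and, mem_inter]
  tauto

/-- The key step for transitivity of the classes. -/
theorem class_step {x y z z' : V} (hy : y ≠ x ∧ ¬ G.Adj x y) (hz : z ≠ x ∧ ¬ G.Adj x z)
    (hz' : z' ≠ x ∧ ¬ G.Adj x z') (hyz : y ≠ z) (hyz' : y ≠ z') (hne : z ≠ z') (a1 : ¬ G.Adj y z)
    (a2 : ¬ G.Adj y z') (d1 : Disjoint (cn G x y) (cn G x z)) (d2 : Disjoint (cn G x y) (cn G x z')) :
    ¬ G.Adj z z' ∧ Disjoint (cn G x z) (cn G x z') := by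
  set r : Fin 3 → V := ![y, z, z'] with hrdef
  have hr : Function.Injective r := by
    intro i j h
    fin_cases i <;> fin_cases j <;> simp_all [hrdef, eq_comm]
  have hrW : ∀ i, r i ∉ nb G x := by
    intro i; fin_cases i <;> simp [hrdef, nb, hy.2, hz.2, hz'.2]
  have hWW : ∀ (c : V → ℤ), ∀ u ∈ nb G x, ∀ w ∈ nb G x, 0 ≤ adjZ G u w * (c u * c w) :=
    fun c u hu w hw => by rw [nb_indep hG hu hw, zero_mul]
  have cy : ∑ w ∈ nb G x, indZ (G.Adj y w) = 4 := by
    rw [sum_nb_cn, card_cn_four hG hy.1.symm hy.2]; rfl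
  have cz : ∑ w ∈ nb G x, indZ (G.Adj z w) = 4 := by
    rw [sum_nb_cn, card_cn_four hG hz.1.symm hz.2]; rfl
  have cz' : ∑ w ∈ nb G x, indZ (G.Adj z' w) = 4 := by
    rw [sum_nb_cn, card_cn_four hG hz'.1.symm hz'.2]; rfl
  have ex1 : ∀ w ∈ nb G x, ¬ (G.Adj y w ∧ G.Adj z w) := fun w hw h =>
    disjoint_left.1 d1 (mem_filter.2 ⟨mem_univ _, (mem_filter.1 hw).2, h.1⟩)
      (mem_filter.2 ⟨mem_univ _, (mem_filter.1 hw).2, h.2⟩)
  have ex2 : ∀ w ∈ nb G x, ¬ (G.Adj y w ∧ G.Adj z' w) := fun w hw h =>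
    disjoint_left.1 d2 (mem_filter.2 ⟨mem_univ _, (mem_filter.1 hw).2, h.1⟩)
      (mem_filter.2 ⟨mem_univ _, (mem_filter.1 hw).2, h.2⟩)
  have hadj : ¬ G.Adj z z' := by
    intro hzz
    set c : V → ℤ := fun w => indZ (G.Adj z w) + indZ (G.Adj z' w) - indZ (G.Adj y w) with hc
    have h := form_test hG r hr ![-2, 2, 2] (nb G x) c hrW (hWW c)
    have ex3 : ∀ w, ¬ (G.Adj z w ∧ G.Adj z' w) := fun w h => no_triangle hG hzz h.1 h.2
    have sc : ∑ w ∈ nb G x, c w = 4 := by
      simp only [hc, sum_add_distrib, sum_sub_distrib, cy, cz, cz']; norm_num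
    have scc : ∑ w ∈ nb G x, c w * c w = 12 := by
      rw [sum_congr rfl fun w hw => show c w * c w = indZ (G.Adj z w) + indZ (G.Adj z' w) + indZ (G.Adj y w) by
        have e1 := ex1 w hw; have e2 := ex2 w hw
        simp only [hc, indZ]
        by_cases p : G.Adj y w <;> by_cases q : G.Adj z w <;> by_cases s : G.Adj z' w <;>
          (have e3 := ex3 w; revert e1 e2 e3; simp [p, q, s])]
      simp only [sum_add_distrib, cy, cz, cz']; norm_num
    have sx : ∑ w ∈ nb G x, c w * ∑ i, adjZ G (r i) w * (![-2, 2, 2] : Fin 3 → ℤ) i = 24 := by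
      rw [sum_congr rfl fun w hw => show c w * ∑ i, adjZ G (r i) w * (![-2, 2, 2] : Fin 3 → ℤ) i =
          2 * indZ (G.Adj z w) + 2 * indZ (G.Adj z' w) + 2 * indZ (G.Adj y w) by
        have e1 := ex1 w hw; have e2 := ex2 w hw
        simp only [hc, indZ, hrdef, adjZ, Fin.sum_univ_three, Matrix.cons_val_zero, Matrix.cons_val_one,
          Matrix.cons_val_two, Matrix.head_cons, Matrix.tail_cons]
        by_cases p : G.Adj y w <;> by_cases q : G.Adj z w <;> by_cases s : G.Adj z' w <;>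
          (have e3 := ex3 w; revert e1 e2 e3; simp [p, q, s])]
      simp only [sum_add_distrib, ← mul_sum, cy, cz, cz']; norm_num
    rw [sc, scc, sx] at h
    simp only [hrdef, Fin.sum_univ_three, Matrix.cons_val_zero, Matrix.cons_val_one, Matrix.cons_val_two,
      Matrix.head_cons, Matrix.tail_cons, adjZ, a1, a2, hzz, hzz.symm, SimpleGraph.irrefl,
      show ¬ G.Adj z y from fun h => a1 h.symm, show ¬ G.Adj z' y from fun h => a2 h.symm, if_false, if_true] at h
    norm_num at h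
  refine ⟨hadj, ?_⟩
  by_contra hd
  have hle := triple_le hG hz.1.symm hz'.1.symm hne hz.2 hz'.2 hadj
  have hpos : 0 < (cn G x z ∩ cn G x z').card :=
    card_pos.2 (nonempty_iff_ne_empty.2 fun e => hd (disjoint_iff_inter_eq_empty.2 e))
  have s2 := sum_nb_cn₂ (G := G) x z z'
  rcases (show (cn G x z ∩ cn G x z').card = 1 ∨ (cn G x z ∩ cn G x z').card = 2 by omega) with e | e <;>
    rw [e] at s2
  · set c : V → ℤ := fun w => indZ (G.Adj z w) + indZ (G.Adj z' w) - 2 * indZ (G.Adj y w) with hc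
    have h := form_test hG r hr ![-3, 2, 2] (nb G x) c hrW (hWW c)
    have sc : ∑ w ∈ nb G x, c w = 0 := by
      simp only [hc, sum_add_distrib, sum_sub_distrib, ← mul_sum, cy, cz, cz']; norm_num
    have scc : ∑ w ∈ nb G x, c w * c w = 26 := by
      rw [sum_congr rfl fun w hw => show c w * c w =
          indZ (G.Adj z w) + indZ (G.Adj z' w) + 2 * indZ (G.Adj z w ∧ G.Adj z' w) + 4 * indZ (G.Adj y w) by
        have e1 := ex1 w hw; have e2 := ex2 w hw
        simp only [hc, indZ]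
        by_cases p : G.Adj y w <;> by_cases q : G.Adj z w <;> by_cases s : G.Adj z' w <;>
          (revert e1 e2; simp [p, q, s])]
      simp only [sum_add_distrib, ← mul_sum, cy, cz, cz', s2]; norm_num
    have sx : ∑ w ∈ nb G x, c w * ∑ i, adjZ G (r i) w * (![-3, 2, 2] : Fin 3 → ℤ) i = 44 := by
      rw [sum_congr rfl fun w hw => show c w * ∑ i, adjZ G (r i) w * (![-3, 2, 2] : Fin 3 → ℤ) i =
          2 * indZ (G.Adj z w) + 2 * indZ (G.Adj z' w) + 4 * indZ (G.Adj z w ∧ G.Adj z' w) +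
            6 * indZ (G.Adj y w) by
        have e1 := ex1 w hw; have e2 := ex2 w hw
        simp only [hc, indZ, hrdef, adjZ, Fin.sum_univ_three, Matrix.cons_val_zero, Matrix.cons_val_one,
          Matrix.cons_val_two, Matrix.head_cons, Matrix.tail_cons]
        by_cases p : G.Adj y w <;> by_cases q : G.Adj z w <;> by_cases s : G.Adj z' w <;>
          (revert e1 e2; simp [p, q, s])]
      simp only [sum_add_distrib, ← mul_sum, cy, cz, cz', s2]; norm_num
    rw [sc, scc, sx] at h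
    simp only [hrdef, Fin.sum_univ_three, Matrix.cons_val_zero, Matrix.cons_val_one, Matrix.cons_val_two,
      Matrix.head_cons, Matrix.tail_cons, adjZ, a1, a2, hadj, SimpleGraph.irrefl,
      show ¬ G.Adj z y from fun h => a1 h.symm, show ¬ G.Adj z' y from fun h => a2 h.symm,
      show ¬ G.Adj z' z from fun h => hadj h.symm, if_false] at h
    norm_num at h
  · set c : V → ℤ := fun w => indZ (G.Adj z w) + indZ (G.Adj z' w) - indZ (G.Adj z w ∧ G.Adj z' w) -
      indZ (G.Adj y w) with hc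
    have h := form_test hG r hr ![-2, 2, 2] (nb G x) c hrW (hWW c)
    have sc : ∑ w ∈ nb G x, c w = 2 := by
      simp only [hc, sum_add_distrib, sum_sub_distrib, cy, cz, cz', s2]; norm_num
    have scc : ∑ w ∈ nb G x, c w * c w = 10 := by
      rw [sum_congr rfl fun w hw => show c w * c w =
          indZ (G.Adj z w) + indZ (G.Adj z' w) - indZ (G.Adj z w ∧ G.Adj z' w) + indZ (G.Adj y w) by
        have e1 := ex1 w hw; have e2 := ex2 w hw
        simp only [hc, indZ]
        by_cases p : G.Adj y w <;> by_cases q : G.Adj z w <;> by_cases s : G.Adj z' w <;>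
          (revert e1 e2; simp [p, q, s])]
      simp only [sum_add_distrib, sum_sub_distrib, cy, cz, cz', s2]; norm_num
    have sx : ∑ w ∈ nb G x, c w * ∑ i, adjZ G (r i) w * (![-2, 2, 2] : Fin 3 → ℤ) i = 24 := by
      rw [sum_congr rfl fun w hw => show c w * ∑ i, adjZ G (r i) w * (![-2, 2, 2] : Fin 3 → ℤ) i =
          2 * indZ (G.Adj z w) + 2 * indZ (G.Adj z' w) + 2 * indZ (G.Adj y w) by
        have e1 := ex1 w hw; have e2 := ex2 w hw
        simp only [hc, indZ, hrdef, adjZ, Fin.sum_univ_three, Matrix.cons_val_zero, Matrix.cons_val_one,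
          Matrix.cons_val_two, Matrix.head_cons, Matrix.tail_cons]
        by_cases p : G.Adj y w <;> by_cases q : G.Adj z w <;> by_cases s : G.Adj z' w <;>
          (revert e1 e2; simp [p, q, s])]
      simp only [sum_add_distrib, ← mul_sum, cy, cz, cz']; norm_num
    rw [sc, scc, sx] at h
    simp only [hrdef, Fin.sum_univ_three, Matrix.cons_val_zero, Matrix.cons_val_one, Matrix.cons_val_two,
      Matrix.head_cons, Matrix.tail_cons, adjZ, a1, a2, hadj, SimpleGraph.irrefl,
      show ¬ G.Adj z y from fun h => a1 h.symm, show ¬ G.Adj z' y from fun h => a2 h.symm,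
      show ¬ G.Adj z' z from fun h => hadj h.symm, if_false] at h
    norm_num at h

/-- The mixed pattern does not occur. -/
theorem no_mixed {x y a b c : V} (hy : y ≠ x ∧ ¬ G.Adj x y) (ha : a ≠ x ∧ ¬ G.Adj x a) (hb : b ≠ x ∧ ¬ G.Adj x b)
    (hc : c ≠ x ∧ ¬ G.Adj x c) (nab : a ≠ b) (nac : a ≠ c) (nbc : b ≠ c) (dab : Disjoint (cn G x a) (cn G x b))
    (dac : Disjoint (cn G x a) (cn G x c)) (dbc : Disjoint (cn G x b) (cn G x c)) (jab : ¬ G.Adj a b)
    (jac : ¬ G.Adj a c) (jbc : ¬ G.Adj b c) (ta : (cn G x y ∩ cn G x a).card = 2)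
    (tb : (cn G x y ∩ cn G x b).card = 1) (tc : (cn G x y ∩ cn G x c).card = 1) : False := by
  have hsep : ∀ u : V, u ≠ x → ¬ G.Adj x u → (cn G x y ∩ cn G x u).card ≠ 0 → (cn G x y ∩ cn G x u).card ≤ 2 →
      y ≠ u ∧ ¬ G.Adj y u := by
    intro u hu1 hu2 h0 h2
    refine ⟨fun e => ?_, fun hadj => ?_⟩
    · subst e; rw [inter_self, card_cn_four hG hy.1.symm hy.2] at h2; omega
    · obtain ⟨p, hp⟩ := card_pos.1 (Nat.pos_of_ne_zero h0)
      rw [mem_inter, cn, cn, mem_filter, mem_filter] at hp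
      exact no_triangle hG hadj hp.1.2.2 hp.2.2.2
  obtain ⟨nya, jya⟩ := hsep a ha.1 ha.2 (by omega) (by omega)
  obtain ⟨nyb, jyb⟩ := hsep b hb.1 hb.2 (by omega) (by omega)
  obtain ⟨nyc, jyc⟩ := hsep c hc.1 hc.2 (by omega) (by omega)
  set r : Fin 4 → V := ![y, a, b, c] with hrdef
  have hr : Function.Injective r := by
    intro i j h
    fin_cases i <;> fin_cases j <;>
      first
        | rfl
        | (simp [hrdef, nya, nyb, nyc, nab, nac, nbc, nya.symm, nyb.symm, nyc.symm, nab.symm, nac.symm, nbc.symm] at h)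
  set f : V → ℤ := fun w => indZ (G.Adj a w) + indZ (G.Adj y w ∧ G.Adj a w) - indZ (G.Adj b w) +
    indZ (G.Adj y w ∧ G.Adj b w) - indZ (G.Adj c w) + indZ (G.Adj y w ∧ G.Adj c w) with hf
  have h := form_test hG r hr ![2, 3, -1, -1] (nb G x) f
    (by intro i; fin_cases i <;> simp [hrdef, nb, hy.2, ha.2, hb.2, hc.2])
    (fun u hu w hw => by rw [nb_indep hG hu hw, zero_mul])
  have mk : ∀ u v : V, Disjoint (cn G x u) (cn G x v) → ∀ w ∈ nb G x, ¬ (G.Adj u w ∧ G.Adj v w) :=
    fun u v d w hw h => disjoint_left.1 d (mem_filter.2 ⟨mem_univ _, (mem_filter.1 hw).2, h.1⟩)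
      (mem_filter.2 ⟨mem_univ _, (mem_filter.1 hw).2, h.2⟩)
  have ca : ∑ w ∈ nb G x, indZ (G.Adj a w) = 4 := by rw [sum_nb_cn, card_cn_four hG ha.1.symm ha.2]; rfl
  have cb : ∑ w ∈ nb G x, indZ (G.Adj b w) = 4 := by rw [sum_nb_cn, card_cn_four hG hb.1.symm hb.2]; rfl
  have cc : ∑ w ∈ nb G x, indZ (G.Adj c w) = 4 := by rw [sum_nb_cn, card_cn_four hG hc.1.symm hc.2]; rfl
  have cya : ∑ w ∈ nb G x, indZ (G.Adj y w ∧ G.Adj a w) = 2 := by rw [sum_nb_cn₂, ta]; rfl
  have cyb : ∑ w ∈ nb G x, indZ (G.Adj y w ∧ G.Adj b w) = 1 := by rw [sum_nb_cn₂, tb]; rfl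
  have cyc : ∑ w ∈ nb G x, indZ (G.Adj y w ∧ G.Adj c w) = 1 := by rw [sum_nb_cn₂, tc]; rfl
  have sc : ∑ w ∈ nb G x, f w = 0 := by
    simp only [hf, sum_add_distrib, sum_sub_distrib, ca, cb, cc, cya, cyb, cyc]; norm_num
  have scc : ∑ w ∈ nb G x, f w * f w = 16 := by
    rw [sum_congr rfl fun w hw => show f w * f w = indZ (G.Adj a w) + 3 * indZ (G.Adj y w ∧ G.Adj a w) +
        indZ (G.Adj b w) - indZ (G.Adj y w ∧ G.Adj b w) + indZ (G.Adj c w) - indZ (G.Adj y w ∧ G.Adj c w) by
      have e1 := mk a b dab w hw; have e2 := mk a c dac w hw; have e3 := mk b c dbc w hw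
      simp only [hf, indZ]
      by_cases q : G.Adj a w <;> by_cases s : G.Adj b w <;> by_cases u : G.Adj c w <;>
        (revert e1 e2 e3; by_cases p : G.Adj y w <;> simp [p, q, s, u])]
    simp only [sum_add_distrib, sum_sub_distrib, ← mul_sum, ca, cb, cc, cya, cyb, cyc]; norm_num
  have sx : ∑ w ∈ nb G x, f w * ∑ i, adjZ G (r i) w * (![2, 3, -1, -1] : Fin 4 → ℤ) i = 32 := by
    rw [sum_congr rfl fun w hw => show f w * ∑ i, adjZ G (r i) w * (![2, 3, -1, -1] : Fin 4 → ℤ) i =
        3 * indZ (G.Adj a w) + 7 * indZ (G.Adj y w ∧ G.Adj a w) + indZ (G.Adj b w) -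
          indZ (G.Adj y w ∧ G.Adj b w) + indZ (G.Adj c w) - indZ (G.Adj y w ∧ G.Adj c w) by
      have e1 := mk a b dab w hw; have e2 := mk a c dac w hw; have e3 := mk b c dbc w hw
      simp only [hf, indZ, hrdef, adjZ, Fin.sum_univ_four, Matrix.cons_val_zero, Matrix.cons_val_one,
        Matrix.cons_val_two, Matrix.cons_val_three, Matrix.head_cons, Matrix.tail_cons]
      by_cases q : G.Adj a w <;> by_cases s : G.Adj b w <;> by_cases u : G.Adj c w <;>
        (revert e1 e2 e3; by_cases p : G.Adj y w <;> simp [p, q, s, u])]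
    simp only [sum_add_distrib, sum_sub_distrib, ← mul_sum, ca, cb, cc, cya, cyb, cyc]; norm_num
  rw [sc, scc, sx] at h
  simp only [hrdef, Fin.sum_univ_four, Matrix.cons_val_zero, Matrix.cons_val_one, Matrix.cons_val_two,
    Matrix.cons_val_three, Matrix.head_cons, Matrix.tail_cons, adjZ, jya, jyb, jyc, jab, jac, jbc,
    SimpleGraph.irrefl, show ¬ G.Adj a y from fun h => jya h.symm, show ¬ G.Adj b y from fun h => jyb h.symm,
    show ¬ G.Adj c y from fun h => jyc h.symm, show ¬ G.Adj b a from fun h => jab h.symm,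
    show ¬ G.Adj c a from fun h => jac h.symm, show ¬ G.Adj c b from fun h => jbc h.symm, if_false] at h
  norm_num at h

end Cfsg.Lib.Srg77
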