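import Cfsg.Agent.Lib.Srg77.Search

/-!
Sets of small natural numbers as bit masks, for the search.
-/

set_option autoImplicit false

namespace Cfsg.Lib.Srg77

/-- The mask of a set. -/
def encSet (s : Finset ℕ) : ℕ := ∑ i ∈ s, 2 ^ i

theorem testBit_encSet (s : Finset ℕ) (i : ℕ) : (encSet s).testBit i = true ↔ i ∈ s := by
  conv_rhs => rw [← Finset.toFinset_bitIndices_sum_two_pow s]
  rw [List.mem_toFinset, Nat.mem_bitIndices]
  rfl

theorem encSet_injective : Function.Injective encSet := fun s t h =>
  Finset.ext fun i => by rw [← testBit_encSet, ← testBit_encSet, h]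

theorem encSet_inter (s t : Finset ℕ) : Nat.land (encSet s) (encSet t) = encSet (s ∩ t) := by
  refine Nat.eq_of_testBit_eq fun i => ?_
  show (encSet s &&& encSet t).testBit i = _
  rw [Nat.testBit_and, Bool.eq_iff_iff, Bool.and_eq_true, testBit_encSet, testBit_encSet, testBit_encSet,
    Finset.mem_inter]

theorem encSet_eq_zero {s : Finset ℕ} : encSet s = 0 ↔ s = ∅ :=
  ⟨fun h => encSet_injective (h.trans Finset.sum_empty.symm), fun h => by rw [h]; exact Finset.sum_empty⟩

theorem encSet_mem_gen : ∀ (n k : ℕ) (s : Finset ℕ), s ⊆ Finset.range n → s.card = k → encSet s ∈ gen k n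
  | n, 0, s, _, hk => by
    rw [Finset.card_eq_zero.1 hk]
    cases n <;> simp [gen, encSet]
  | 0, k + 1, s, hs, hk => by
    rw [Finset.range_zero, Finset.subset_empty] at hs
    simp [hs] at hk
  | n + 1, k + 1, s, hs, hk => by
    rw [gen, List.mem_append]
    by_cases hn : n ∈ s
    · right
      refine List.mem_map.2 ⟨encSet (s.erase n), encSet_mem_gen n k _ (fun i hi => ?_) ?_, ?_⟩
      · have := Finset.mem_range.1 (hs (Finset.mem_of_mem_erase hi))
        have := Finset.ne_of_mem_erase hi
        exact Finset.mem_range.2 (by omega)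
      · rw [Finset.card_erase_of_mem hn, hk]; rfl
      · rw [encSet, encSet, Finset.sum_erase_add _ _ hn]
    · left
      refine encSet_mem_gen n (k + 1) s (fun i hi => ?_) hk
      have := Finset.mem_range.1 (hs hi)
      have : i ≠ n := fun e => hn (e ▸ hi)
      exact Finset.mem_range.2 (by omega)

theorem pair_mask {m : ℕ} (hm : m ∈ pairMasks) :
    ∃ a b : ℕ, a < 16 ∧ b < 16 ∧ a ≠ b ∧ m = encSet {a, b} := by
  have h : pairMasks.all (fun m => (List.range 16).any fun a => (List.range 16).any fun b =>
      a != b && m == 2 ^ a + 2 ^ b) = true := by decide +kernel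
  have h' := List.all_eq_true.1 h m hm
  simp only [List.any_eq_true, List.mem_range, Bool.and_eq_true, bne_iff_ne, beq_iff_eq] at h'
  obtain ⟨a, ha, b, hb, hab, e⟩ := h'
  exact ⟨a, b, ha, hb, hab, by rw [encSet, Finset.sum_pair hab, e]⟩

theorem bit_checks : (List.range 16).all (fun a => oneBit (2 ^ a) &&
    (List.range 16).all fun b => a == b || zeroTwo (2 ^ a + 2 ^ b)) = true := by decide +kernel

theorem oneBit_of_card {s : Finset ℕ} (hs : s ⊆ Finset.range 16) (h : s.card = 1) : oneBit (encSet s) = true := by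
  obtain ⟨a, rfl⟩ := Finset.card_eq_one.1 h
  have h' := List.all_eq_true.1 bit_checks a (List.mem_range.2 (Finset.mem_range.1 (hs (Finset.mem_singleton_self a))))
  rw [Bool.and_eq_true] at h'
  rw [encSet, Finset.sum_singleton]
  exact h'.1

theorem zeroTwo_of_card {s : Finset ℕ} (hs : s ⊆ Finset.range 16) (h : s.card = 0 ∨ s.card = 2) :
    zeroTwo (encSet s) = true := by
  rcases h with h | h
  · rw [Finset.card_eq_zero.1 h]; rfl
  · obtain ⟨a, b, hab, rfl⟩ := Finset.card_eq_two.1 h
    have ha := Finset.mem_range.1 (hs (Finset.mem_insert_self a _))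
    have hb := Finset.mem_range.1 (hs (Finset.mem_insert_of_mem (Finset.mem_singleton_self b)))
    have h' := List.all_eq_true.1 bit_checks a (List.mem_range.2 ha)
    simp only [Bool.and_eq_true, List.all_eq_true, List.mem_range, Bool.or_eq_true, beq_iff_eq] at h'
    rw [encSet, Finset.sum_pair hab]
    exact (h'.2 b hb).resolve_left hab

theorem low_bit {m : ℕ} (hm : m ≠ 0) :
    ∃ i, (Nat.xor m (Nat.land m (m - 1))).testBit i = true ∧ m.testBit i = true := by
  have hne : Nat.xor m (Nat.land m (m - 1)) ≠ 0 := by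
    intro h
    have h1 : m = Nat.land m (m - 1) := by
      have := congrArg (· ^^^ Nat.land m (m - 1)) (show m ^^^ Nat.land m (m - 1) = 0 from h)
      simpa [Nat.xor_assoc] using this
    have h2 : Nat.land m (m - 1) ≤ m - 1 := Nat.and_le_right
    omega
  obtain ⟨i, hi⟩ := Nat.exists_testBit_of_ne_zero hne
  refine ⟨i, hi, ?_⟩
  have h := hi
  rw [show Nat.xor m (Nat.land m (m - 1)) = m ^^^ (m &&& (m - 1)) from rfl, Nat.testBit_xor, Nat.testBit_and] at h
  cases hb : m.testBit i
  · simp [hb] at h
  · rfl

/-- Every partition of a mask into admissible blocks is listed. -/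
theorem ext_complete (Q : List ℕ) : ∀ (fuel : ℕ) (rem : ℕ) (F : Finset ℕ), F.card ≤ fuel →
    (∀ q ∈ F, q ∈ Q ∧ q ≠ 0) → (∀ q ∈ F, ∀ r ∈ F, q ≠ r → Nat.land q r = 0) →
    (∀ i, rem.testBit i = true ↔ ∃ q ∈ F, q.testBit i = true) →
    ∃ l ∈ ext Q fuel rem, ∀ q, q ∈ l ↔ q ∈ F := by
  intro fuel
  induction fuel with
  | zero =>
    intro rem F hF _ _ hrem
    obtain rfl := Finset.card_eq_zero.1 (Nat.le_zero.1 hF)
    have hr : rem = 0 := Nat.eq_of_testBit_eq fun i => by
      rw [Nat.zero_testBit, Bool.eq_false_iff]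
      exact fun h => by simpa using (hrem i).1 h
    subst hr
    exact ⟨[], by simp [ext], by simp⟩
  | succ fuel ih =>
    intro rem F hF hQ hd hrem
    cases rem with
    | zero =>
      refine ⟨[], by simp [ext], fun q => ⟨fun h => absurd h (List.not_mem_nil), fun hq => ?_⟩⟩
      obtain ⟨i, hi⟩ := Nat.exists_testBit_of_ne_zero (hQ q hq).2
      have := (hrem i).2 ⟨q, hq, hi⟩
      simp at this
    | succ rem =>
      obtain ⟨i, hlow, hi⟩ := low_bit (m := rem + 1) (by omega)
      obtain ⟨q, hq, hqi⟩ := (hrem i).1 hi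
      have hsub : Nat.land q (rem + 1) = q := Nat.eq_of_testBit_eq fun j => by
        show (q &&& (rem + 1)).testBit j = _
        rw [Nat.testBit_and]
        cases hj : q.testBit j
        · rfl
        · rw [(hrem j).2 ⟨q, hq, hj⟩]; rfl
      have hmeet : Nat.land q (Nat.xor (rem + 1) (Nat.land (rem + 1) rem)) ≠ 0 := fun h => by
        have e := congrArg (fun x : ℕ => x.testBit i) h
        simp only [Nat.zero_testBit] at e
        rw [show Nat.land q (Nat.xor (rem + 1) (Nat.land (rem + 1) rem)) =
          q &&& Nat.xor (rem + 1) (Nat.land (rem + 1) rem) from rfl, Nat.testBit_and, hqi, Bool.true_and] at e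
        rw [show Nat.xor (rem + 1) (Nat.land (rem + 1) rem) =
          Nat.xor (rem + 1) (Nat.land (rem + 1) (rem + 1 - 1)) from rfl, hlow] at e
        exact Bool.noConfusion e
      obtain ⟨l, hl, hl'⟩ := ih (Nat.xor (rem + 1) q) (F.erase q)
        (by rw [Finset.card_erase_of_mem hq]; omega) (fun r hr => hQ r (Finset.mem_of_mem_erase hr))
        (fun r hr r' hr' => hd r (Finset.mem_of_mem_erase hr) r' (Finset.mem_of_mem_erase hr')) (fun j => by
          show ((rem + 1) ^^^ q).testBit j = true ↔ _
          rw [Nat.testBit_xor]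
          constructor
          · intro h
            cases hj : q.testBit j
            · rw [hj] at h
              obtain ⟨r, hr, hrj⟩ := (hrem j).1 (by simpa using h)
              exact ⟨r, Finset.mem_erase.2 ⟨fun e => by rw [e, hj] at hrj; exact Bool.noConfusion hrj, hr⟩, hrj⟩
            · rw [hj, (hrem j).2 ⟨q, hq, hj⟩] at h
              simp at h
          · rintro ⟨r, hr, hrj⟩
            obtain ⟨hne, hrF⟩ := Finset.mem_erase.1 hr
            have hz := congrArg (fun x : ℕ => x.testBit j) (hd r hrF q hq hne)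
            rw [show Nat.land r q = r &&& q from rfl] at hz
            simp only [Nat.testBit_and, hrj, Bool.true_and, Nat.zero_testBit] at hz
            rw [(hrem j).2 ⟨r, hrF, hrj⟩, hz]
            rfl)
      refine ⟨q :: l, ?_, fun p => ?_⟩
      · rw [ext, List.mem_flatMap]
        refine ⟨q, List.mem_filter.2 ⟨(hQ q hq).1, ?_⟩, List.mem_map.2 ⟨l, hl, rfl⟩⟩
        rw [hsub, beq_self_eq_true, Bool.true_and, bne_iff_ne]
        exact hmeet
      · rw [List.mem_cons, hl', Finset.mem_erase]
        by_cases hp : p = q <;> simp [hp, hq]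

theorem testBit_permMask (π : List ℕ) (q j : ℕ) :
    (permMask π q).testBit j = true ↔ ∃ i < 16, q.testBit i = true ∧ π.getD i 0 = j := by
  have key : ∀ (l : List ℕ) (acc : ℕ),
      (l.foldl (fun acc i => if q.testBit i then Nat.lor acc (2 ^ π.getD i 0) else acc) acc).testBit j = true ↔
        acc.testBit j = true ∨ ∃ i ∈ l, q.testBit i = true ∧ π.getD i 0 = j := by
    intro l
    induction l with
    | nil => simp
    | cons a l ih =>
      intro acc
      rw [List.foldl_cons, ih]
      cases ha : q.testBit a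
      · simp [ha]
      · simp only [if_true]
        rw [show Nat.lor acc (2 ^ π.getD a 0) = acc ||| 2 ^ π.getD a 0 from rfl, Nat.testBit_or,
          Nat.testBit_two_pow]
        simp [ha, or_assoc]
  rw [permMask, key]
  simp

theorem permMask_encSet (π : List ℕ) (t : Finset ℕ) (ht : t ⊆ Finset.range 16) :
    permMask π (encSet t) = encSet (t.image fun i => π.getD i 0) := by
  refine Nat.eq_of_testBit_eq fun j => ?_
  rw [Bool.eq_iff_iff, testBit_permMask, testBit_encSet, Finset.mem_image]
  simp only [testBit_encSet]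
  exact ⟨fun ⟨i, _, hi, e⟩ => ⟨i, hi, e⟩, fun ⟨i, hi, e⟩ => ⟨i, Finset.mem_range.1 (ht hi), hi, e⟩⟩

end Cfsg.Lib.Srg77
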