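import Mathlib
import Cfsg.Agent.Lib.Srg77.Data

/-!
The designs on sixteen points that occur in a strongly regular graph with parameters (77, 16, 0, 4).
-/

set_option autoImplicit false

namespace Cfsg.Lib.Srg77

/-- Exactly one bit. -/
def oneBit (x : ℕ) : Bool := x != 0 && Nat.land x (x - 1) == 0

/-- No bit or exactly two bits. -/
def zeroTwo (x : ℕ) : Bool := x == 0 || oneBit (Nat.land x (x - 1))

/-- The admissible ways in which a block meets the blocks of a class. -/
def okPat (q : ℕ) (P : List ℕ) : Bool :=
  P.all (fun p => oneBit (Nat.land q p)) || P.all (fun p => zeroTwo (Nat.land q p))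

/-- The numbers below `2 ^ n` with `k` bits. -/
def gen : ℕ → ℕ → List ℕ
  | 0, _ => [0]
  | _ + 1, 0 => []
  | k + 1, n + 1 => gen (k + 1) n ++ (gen k n).map (· + 2 ^ n)

/-- Decode fixed width digits under a leading one. -/
def unpack (w : ℕ) : ℕ → ℕ → List ℕ
  | 0, _ => []
  | fuel + 1, m => if m ≤ 1 then [] else (m % 2 ^ w) :: unpack w fuel (m / 2 ^ w)

/-- The rows of the grid. -/
def rowBlocks : List ℕ := [15, 240, 3840, 61440]

/-- The columns of the grid. -/
def colBlocks : List ℕ := [4369, 8738, 17476, 34952]

/-- The blocks meeting the grid admissibly. -/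
def blocks : List ℕ := (gen 4 16).filter fun q => okPat q rowBlocks && okPat q colBlocks

/-- Partitions by blocks. -/
def ext : List ℕ → ℕ → ℕ → List (List ℕ)
  | _, _, 0 => [[]]
  | _, 0, _ + 1 => []
  | Q, fuel + 1, rem + 1 =>
    (Q.filter fun q => Nat.land q (rem + 1) == q &&
        Nat.land q (Nat.xor (rem + 1) (Nat.land (rem + 1) rem)) != 0).flatMap fun q =>
      (ext Q fuel (Nat.xor (rem + 1) q)).map (q :: ·)

/-- A candidate partition. -/
noncomputable def part (i : ℕ) : List ℕ := unpack 16 4 (partCodes.getD i 0)

/-- A block covers a pair. -/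
def cover (P : List ℕ) (m : ℕ) : Bool := P.any fun q => Nat.land q m == m

/-- The candidates covering a pair. -/
noncomputable def covList (k : ℕ) : List ℕ := unpack 8 200 (pairCodes.getD k 0)

/-- The pairs. -/
def pairMasks : List ℕ := gen 2 16

/-- Two classes are compatible. -/
def compat (P R : List ℕ) : Bool := P.all (fun q => okPat q R) && R.all fun q => okPat q P

/-- Three blocks are pairwise disjoint. -/
def triple (q r s : ℕ) : Bool := Nat.land q r == 0 && Nat.land q s == 0 && Nat.land r s == 0

/-- A recorded conflict of a candidate with the chosen ones. -/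
noncomputable def conflictOK (ch : List ℕ) (x : ℕ) : Bool :=
  let j := x % 256
  let t := x / 256 % 4
  let k := x / 1024 % 256
  let a := x / 262144 % 4
  let b := x / 1048576 % 4
  let l := x / 4194304 % 256
  let c := x / 1073741824
  ch.contains k && j != k &&
    if t == 0 then decide (a < (part j).length) && !okPat ((part j).getD a 0) (part k)
    else if t == 1 then decide (a < (part k).length) && !okPat ((part k).getD a 0) (part j)
    else ch.contains l && j != l && k != l && decide (a < (part j).length) && decide (b < (part k).length) &&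
      decide (c < (part l).length) && triple ((part j).getD a 0) ((part k).getD b 0) ((part l).getD c 0)

/-- Image of a block under a permutation of the points. -/
def permMask (π : List ℕ) (q : ℕ) : ℕ :=
  (List.range 16).foldl (fun acc i => if q.testBit i then Nat.lor acc (2 ^ π.getD i 0) else acc) 0

/-- The model classes. -/
noncomputable def canon : List (List ℕ) := canonCodes.map (unpack 16 4)

/-- A relabelling. -/
noncomputable def perm (s : ℕ) : List ℕ := unpack 4 16 (permCodes.getD s 0)

/-- A complete family is carried onto the model. -/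
noncomputable def solOK (s : ℕ) (ch : List ℕ) : Bool :=
  decide (s < permCodes.length) && decide (ch.length = 15) && decide ch.Nodup &&
    ch.all fun i => canon.any fun C => (part i).all fun q => C.contains (permMask (perm s) q)

/-- The check of a search tree. -/
noncomputable def check : Tree → List ℕ → List ℕ → Bool
  | .sol s, ch, _ => solOK s ch
  | .over k, ch, _ =>
    decide (k < pairMasks.length) && decide (3 < (covList k).countP fun j => ch.contains j) && decide ch.Nodup
  | .dead k ws, ch, ex =>
    decide (k < pairMasks.length) && (unpack 32 200 ws).all (conflictOK ch) &&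
      decide ((covList k).countP (fun j => ch.contains j ||
        !(ex.contains j || ((unpack 32 200 ws).map (· % 256)).contains j)) < 3)
  | .split i l r, ch, ex => check l (i :: ch) ex && check r ch (i :: ex)

theorem check_tree : check tree [159, 160] [] = true := by decide +kernel

theorem cov_spec : (List.range 120).all (fun k =>
    covList k == (List.range 161).filter fun i => cover (part i) (pairMasks.getD k 0)) = true := by decide +kernel

theorem grid_spec : part 159 = rowBlocks ∧ part 160 = colBlocks ∧ pairMasks.length = 120 := by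
  refine ⟨?_, ?_, ?_⟩ <;> decide +kernel

theorem parts_spec : ((ext blocks 4 65535).filter fun P => compat P rowBlocks && compat P colBlocks).all
    (fun P => P.all (fun q => rowBlocks.contains q) || P.all (fun q => colBlocks.contains q) ||
      (List.range 159).any fun i => part i == P) = true := by decide +kernel

theorem perm_spec : (List.range permCodes.length).all (fun s => decide (perm s).Nodup &&
    decide ((perm s).length = 16) && (perm s).all fun x => decide (x < 16)) = true := by decide +kernel

theorem canon_spec : canon.flatten.Nodup ∧ canon.flatten.length = 60 ∧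
    canon.all (fun C => decide (C.length = 4)) = true := by
  refine ⟨?_, ?_, ?_⟩ <;> decide +kernel

/-- The hypotheses on a family of classes. -/
structure Family (S : Finset ℕ) : Prop where
  rows : 159 ∈ S
  cols : 160 ∈ S
  lt : ∀ i ∈ S, i < 161
  card : S.card = 15
  pair : ∀ m ∈ pairMasks, (S.filter fun i => cover (part i) m).card = 3
  two : ∀ i ∈ S, ∀ j ∈ S, i ≠ j → ∀ q ∈ part i, okPat q (part j) = true
  three : ∀ i ∈ S, ∀ j ∈ S, ∀ l ∈ S, i ≠ j → i ≠ l → j ≠ l →
    ∀ q ∈ part i, ∀ r ∈ part j, ∀ s ∈ part l, triple q r s = false

theorem getD_mem {l : List ℕ} {a : ℕ} (h : a < l.length) : l.getD a 0 ∈ l := by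
  rw [List.getD_eq_getElem _ _ h]; exact List.getElem_mem h

theorem conflict_sound {S : Finset ℕ} (hS : Family S) {ch : List ℕ} (hch : ∀ i ∈ ch, i ∈ S) {x : ℕ}
    (h : conflictOK ch x = true) : x % 256 ∉ S := by
  intro hj
  simp only [conflictOK, Bool.and_eq_true, List.contains_iff_mem, bne_iff_ne] at h
  obtain ⟨⟨hk, hjk⟩, h⟩ := h
  split at h
  · simp only [Bool.and_eq_true, decide_eq_true_eq, Bool.not_eq_true'] at h
    rw [hS.two _ hj _ (hch _ hk) hjk _ (getD_mem h.1)] at h
    exact Bool.noConfusion h.2
  split at h
  · simp only [Bool.and_eq_true, decide_eq_true_eq, Bool.not_eq_true'] at h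
    rw [hS.two _ (hch _ hk) _ hj (Ne.symm hjk) _ (getD_mem h.1)] at h
    exact Bool.noConfusion h.2
  · simp only [Bool.and_eq_true, decide_eq_true_eq, List.contains_iff_mem, bne_iff_ne] at h
    obtain ⟨⟨⟨⟨⟨⟨hl, hjl⟩, hkl⟩, ha⟩, hb⟩, hc⟩, ht⟩ := h
    rw [hS.three _ hj _ (hch _ hk) _ (hch _ hl) hjk hjl hkl _ (getD_mem ha) _ (getD_mem hb) _ (getD_mem hc)] at ht
    exact Bool.noConfusion ht

theorem covList_count {S : Finset ℕ} (hS : Family S) {k : ℕ} (hk : k < pairMasks.length) :
    (covList k).countP (fun j => decide (j ∈ S)) = 3 := by
  rw [grid_spec.2.2] at hk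
  have h := List.all_eq_true.1 cov_spec k (List.mem_range.2 hk)
  rw [beq_iff_eq] at h
  rw [h, List.countP_filter, List.countP_eq_length_filter,
    ← List.toFinset_card_of_nodup (List.nodup_range.filter _),
    ← hS.pair (pairMasks.getD k 0) (getD_mem (by rw [grid_spec.2.2]; exact hk))]
  congr 1
  ext i
  simp only [List.mem_toFinset, List.mem_filter, List.mem_range, Bool.and_eq_true, decide_eq_true_eq,
    Finset.mem_filter]
  exact ⟨fun h => ⟨h.2.1, h.2.2⟩, fun h => ⟨hS.lt i h.1, h.1, h.2⟩⟩

/-- Soundness of the search. -/
theorem check_sound {S : Finset ℕ} (hS : Family S) : ∀ (t : Tree) (ch ex : List ℕ), check t ch ex = true →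
    (∀ i ∈ ch, i ∈ S) → (∀ i ∈ ex, i ∉ S) →
    ∃ s < permCodes.length, ∀ i ∈ S, ∃ C ∈ canon, ∀ q ∈ part i, permMask (perm s) q ∈ C := by
  intro t
  induction t with
  | sol s =>
    intro ch ex h hch _
    simp only [check, solOK, Bool.and_eq_true, decide_eq_true_eq, List.all_eq_true, List.any_eq_true,
      List.contains_iff_mem] at h
    refine ⟨s, h.1.1.1, fun i hi => h.2 i ?_⟩
    have e : ch.toFinset = S := Finset.eq_of_subset_of_card_le (fun i hi => hch i (List.mem_toFinset.1 hi))
      (by rw [List.toFinset_card_of_nodup h.1.2, hS.card, h.1.1.2])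
    rw [← e] at hi
    exact List.mem_toFinset.1 hi
  | «over» k =>
    intro ch ex h hch _
    simp only [check, Bool.and_eq_true, decide_eq_true_eq] at h
    have h3 := covList_count hS h.1.1
    have hle : (covList k).countP (fun j => ch.contains j) ≤ (covList k).countP (fun j => decide (j ∈ S)) :=
      List.countP_mono_left fun j _ hj => decide_eq_true (hch j (List.contains_iff_mem.1 hj))
    omega
  | dead k ws =>
    intro ch ex h hch hex
    simp only [check, Bool.and_eq_true, decide_eq_true_eq] at h
    have h3 := covList_count hS h.1.1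
    have hle : (covList k).countP (fun j => decide (j ∈ S)) ≤ (covList k).countP (fun j => ch.contains j ||
        !(ex.contains j || ((unpack 32 200 ws).map (· % 256)).contains j)) :=
      List.countP_mono_left fun j _ hj => by
        have hjS : j ∈ S := of_decide_eq_true hj
        simp only [Bool.or_eq_true, Bool.not_eq_true', Bool.or_eq_false_iff]
        refine Or.inr ⟨?_, ?_⟩
        · by_contra hc
          exact hex j (List.contains_iff_mem.1 (Bool.not_eq_false _ ▸ hc)) hjS
        · by_contra hc
          obtain ⟨x, hx, rfl⟩ := List.mem_map.1 (List.contains_iff_mem.1 (Bool.not_eq_false _ ▸ hc))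
          exact conflict_sound hS hch (List.all_eq_true.1 h.1.2 x hx) hjS
    omega
  | split i l r ihl ihr =>
    intro ch ex h hch hex
    simp only [check, Bool.and_eq_true] at h
    by_cases hi : i ∈ S
    · refine ihl (i :: ch) ex h.1 ?_ hex
      intro j hj
      rcases List.mem_cons.1 hj with rfl | hj
      · exact hi
      · exact hch j hj
    · refine ihr ch (i :: ex) h.2 hch ?_
      intro j hj
      rcases List.mem_cons.1 hj with rfl | hj
      · exact hi
      · exact hex j hj

/-- Every family is carried onto the model. -/
theorem classify {S : Finset ℕ} (hS : Family S) :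
    ∃ s < permCodes.length, ∀ i ∈ S, ∃ C ∈ canon, ∀ q ∈ part i, permMask (perm s) q ∈ C :=
  check_sound hS tree [159, 160] [] check_tree
    (by intro i hi; fin_cases hi; exacts [hS.rows, hS.cols]) (by simp)

end Cfsg.Lib.Srg77
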