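import Cfsg.Agent.Lib.Srg77.Facts
import Cfsg.Agent.Lib.Srg77.Masks

/-!
The strongly regular graph with parameters (77, 16, 0, 4) is unique.
-/

set_option autoImplicit false
set_option maxHeartbeats 800000

namespace Cfsg.Lib.Srg77

open Finset

/-- The model adjacency on 77 indices: a root, sixteen points, sixty blocks. -/
noncomputable def modelRel (u v : ℕ) : Prop :=
  if u = 0 then 1 ≤ v ∧ v ≤ 16
  else if v = 0 then 1 ≤ u ∧ u ≤ 16
  else if u ≤ 16 then 17 ≤ v ∧ (canon.flatten.getD (v - 17) 0).testBit (u - 1) = true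
  else if v ≤ 16 then (canon.flatten.getD (u - 17) 0).testBit (v - 1) = true
  else Nat.land (canon.flatten.getD (u - 17) 0) (canon.flatten.getD (v - 17) 0) = 0 ∧
    ¬ ∃ C ∈ canon, canon.flatten.getD (u - 17) 0 ∈ C ∧ canon.flatten.getD (v - 17) 0 ∈ C

variable {V : Type*} [Fintype V] [DecidableEq V] {G : SimpleGraph V} [DecidableRel G.Adj]

/-- The vertices at distance two. -/
def far (G : SimpleGraph V) [DecidableRel G.Adj] (x : V) : Finset V := univ.filter fun y => y ≠ x ∧ ¬ G.Adj x y

theorem mem_far {x y : V} : y ∈ far G x ↔ y ≠ x ∧ ¬ G.Adj x y := by simp [far]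

variable (hG : G.IsSRGWith 77 16 0 4)

include hG

theorem card_far (x : V) : (far G x).card = 60 := by
  have h : far G x = (univ.erase x) \ nb G x := by ext y; simp [far, nb]
  rw [h, card_sdiff_of_subset, card_erase_of_mem (mem_univ x), card_univ, hG.card, card_nb hG]
  intro y hy
  exact mem_erase.2 ⟨fun e => by subst e; simp [nb] at hy, mem_univ _⟩

theorem cn_subset (x y : V) : cn G x y ⊆ nb G x := fun p hp =>
  mem_filter.2 ⟨mem_univ _, (mem_filter.1 hp).2.1⟩

theorem count_point {x p : V} (hp : p ∈ nb G x) : ((far G x).filter fun z => p ∈ cn G x z).card = 15 := by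
  have hxp : G.Adj x p := (mem_filter.1 hp).2
  have h : (far G x).filter (fun z => p ∈ cn G x z) = (nb G p).erase x := by
    ext z
    simp only [mem_filter, mem_far, cn, nb, mem_erase, mem_univ, true_and]
    exact ⟨fun h => ⟨h.1.1, h.2.2.symm⟩,
      fun h => ⟨⟨h.1, fun hz => no_triangle hG hxp hz h.2⟩, hxp, h.2.symm⟩⟩
  rw [h, card_erase_of_mem (show x ∈ nb G p from mem_filter.2 ⟨mem_univ _, hxp.symm⟩), card_nb hG]

theorem count_pair {x p q : V} (hp : p ∈ nb G x) (hq : q ∈ nb G x) (hpq : p ≠ q) :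
    ((far G x).filter fun z => p ∈ cn G x z ∧ q ∈ cn G x z).card = 3 := by
  have hxp : G.Adj x p := (mem_filter.1 hp).2
  have hxq : G.Adj x q := (mem_filter.1 hq).2
  have h : (far G x).filter (fun z => p ∈ cn G x z ∧ q ∈ cn G x z) = (cn G p q).erase x := by
    ext z
    simp only [mem_filter, mem_far, cn, mem_erase, mem_univ, true_and]
    exact ⟨fun h => ⟨h.1.1, h.2.1.2.symm, h.2.2.2.symm⟩,
      fun h => ⟨⟨h.1, fun hz => no_triangle hG hxp hz h.2.1⟩, ⟨hxp, h.2.1.symm⟩, hxq, h.2.2.symm⟩⟩
  rw [h, card_erase_of_mem (show x ∈ cn G p q from mem_filter.2 ⟨mem_univ _, hxp.symm, hxq.symm⟩),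
    card_cn_four hG hpq (no_triangle hG hxp hxq)]

/-- The class of a far vertex. -/
noncomputable def cls (G : SimpleGraph V) [DecidableRel G.Adj] (x y : V) : Finset V := by
  classical exact (far G x).filter fun z => sameCls G x y z

omit hG in
theorem mem_cls {x y z : V} : z ∈ cls G x y ↔ z ∈ far G x ∧ sameCls G x y z := by
  classical simp [cls]

omit hG in
theorem self_mem_cls {x y : V} (hy : y ∈ far G x) : y ∈ cls G x y := mem_cls.2 ⟨hy, Or.inl rfl⟩

theorem adj_disjoint {x y z : V} (h : G.Adj y z) : Disjoint (cn G x y) (cn G x z) :=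
  disjoint_left.2 fun _ hp hq => no_triangle hG h (mem_filter.1 hp).2.2 (mem_filter.1 hq).2.2

theorem card_cls {x y : V} (hy : y ∈ far G x) : (cls G x y).card = 4 := by
  classical
  obtain ⟨hyx, hxy⟩ := mem_far.1 hy
  have hQ := card_cn_four hG hyx.symm hxy
  set f : V → ℤ := fun z => ((cn G x y ∩ cn G x z).card : ℤ) with hf
  set g : V → ℤ := fun z => f z * f z - 3 * f z + 2 with hg
  have hexp : ∀ z, f z = ∑ p ∈ cn G x y, if p ∈ cn G x z then (1 : ℤ) else 0 := fun z => by
    rw [Finset.sum_boole, filter_mem_eq_inter]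
  have s1 : ∑ z ∈ far G x, f z = 60 := by
    simp only [hexp]
    rw [sum_comm]
    simp only [Finset.sum_boole]
    rw [sum_congr rfl fun p hp => show (((far G x).filter fun z => p ∈ cn G x z).card : ℤ) = 15 by
      rw [count_point hG (cn_subset hG x y hp)]; rfl]
    rw [sum_const, hQ]; norm_num
  have s2 : ∑ z ∈ far G x, f z * f z = 96 := by
    simp only [hexp, sum_mul_sum, ite_mul, one_mul, zero_mul, ← ite_and]
    rw [sum_comm]
    rw [sum_congr rfl fun p hp => show (∑ z ∈ far G x, ∑ q ∈ cn G x y,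
        if p ∈ cn G x z ∧ q ∈ cn G x z then (1 : ℤ) else 0) = 24 by
      rw [sum_comm, ← add_sum_erase _ _ hp]
      simp only [and_self, Finset.sum_boole, count_point hG (cn_subset hG x y hp)]
      rw [sum_congr rfl fun q hq => show (((far G x).filter fun z => p ∈ cn G x z ∧ q ∈ cn G x z).card : ℤ) = 3 by
        rw [count_pair hG (cn_subset hG x y hp) (cn_subset hG x y (mem_of_mem_erase hq))
          (Ne.symm (ne_of_mem_erase hq))]; rfl]
      rw [sum_const, card_erase_of_mem hp, hQ]
      norm_num]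
    rw [sum_const, hQ]; norm_num
  have stot : ∑ z ∈ far G x, g z = 36 := by
    simp only [hg, sum_add_distrib, sum_sub_distrib, ← mul_sum, s1, s2, sum_const, card_far hG x]
    norm_num
  set Aj := (far G x).filter fun z => G.Adj y z with hAj
  set N := ((far G x).erase y).filter fun z => ¬ G.Adj y z with hN
  have cA : Aj.card = 12 := by
    have h : Aj = nb G y \ cn G x y := by
      ext z
      simp only [hAj, mem_filter, mem_far, nb, cn, mem_sdiff, mem_univ, true_and]
      exact ⟨fun h => ⟨h.2, fun hc => h.1.2 hc.1⟩,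
        fun h => ⟨⟨fun e => hxy (e ▸ h.1).symm, fun hxz => h.2 ⟨hxz, h.1⟩⟩, h.1⟩⟩
    rw [h, card_sdiff_of_subset, card_nb hG, hQ]
    exact fun p hp => mem_filter.2 ⟨mem_univ _, (mem_filter.1 hp).2.2⟩
  have hsplit : ∀ u : V → ℤ, ∑ z ∈ far G x, u z = u y + (∑ z ∈ Aj, u z + ∑ z ∈ N, u z) := by
    intro u
    rw [← add_sum_erase _ _ hy, ← sum_filter_add_sum_filter_not ((far G x).erase y) (fun z => G.Adj y z) u,
      show ((far G x).erase y).filter (fun z => G.Adj y z) = Aj by
        ext z
        simp only [hAj, mem_filter, mem_erase]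
        exact ⟨fun h => ⟨h.1.2, h.2⟩, fun h => ⟨⟨fun e => G.irrefl (e ▸ h.2), h.1⟩, h.2⟩⟩]
  have gy : g y = 6 := by simp [hg, hf, hQ]
  have gA : ∑ z ∈ Aj, g z = 24 := by
    rw [sum_congr rfl fun z hz => show g z = 2 by
      have hd := adj_disjoint hG (x := x) (mem_filter.1 hz).2
      simp [hg, hf, disjoint_iff_inter_eq_empty.1 hd], sum_const, cA]
    norm_num
  have gN : ∀ z ∈ N, g z = 2 * indZ (Disjoint (cn G x y) (cn G x z)) := by
    intro z hz
    obtain ⟨hz', hn⟩ := mem_filter.1 hz
    obtain ⟨hne, hzf⟩ := mem_erase.1 hz'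
    obtain ⟨hzx, hxz⟩ := mem_far.1 hzf
    have hle := triple_le hG hyx.symm hzx.symm (Ne.symm hne) hxy hxz hn
    simp only [indZ, hg, hf]
    rcases (show (cn G x y ∩ cn G x z).card = 0 ∨ (cn G x y ∩ cn G x z).card = 1 ∨
      (cn G x y ∩ cn G x z).card = 2 by omega) with e | e | e
    · have : Disjoint (cn G x y) (cn G x z) := disjoint_iff_inter_eq_empty.2 (card_eq_zero.1 e)
      rw [if_pos this, e]; norm_num
    all_goals
      rw [if_neg (fun d : Disjoint (cn G x y) (cn G x z) => by
        rw [disjoint_iff_inter_eq_empty.1 d, card_empty] at e; omega), e]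
      norm_num
  have h3 : ((N.filter fun z => Disjoint (cn G x y) (cn G x z)).card : ℤ) = 3 := by
    have := hsplit g
    rw [stot, gy, gA, sum_congr rfl gN, ← mul_sum, sum_indZ] at this
    linarith
  have hcls : cls G x y = insert y (N.filter fun z => Disjoint (cn G x y) (cn G x z)) := by
    ext z
    simp only [mem_cls, sameCls, mem_insert, hN, mem_filter, mem_erase]
    by_cases hz : z = y
    · subst hz; simp [hy]
    · simp [hz]; tauto
  rw [hcls, card_insert_of_notMem (by simp [hN])]
  omega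

theorem cls_disjoint {x y z z' : V} (hy : y ∈ far G x) (hz : z ∈ cls G x y) (hz' : z' ∈ cls G x y) (hne : z ≠ z') :
    ¬ G.Adj z z' ∧ Disjoint (cn G x z) (cn G x z') := by
  obtain ⟨hzf, hz1⟩ := mem_cls.1 hz
  obtain ⟨hzf', hz1'⟩ := mem_cls.1 hz'
  rcases hz1 with rfl | ⟨a1, d1⟩
  · rcases hz1' with rfl | h
    · exact absurd rfl hne
    · exact h
  rcases hz1' with rfl | ⟨a2, d2⟩
  · exact ⟨fun h => a1 h.symm, d1.symm⟩
  by_cases e1 : y = z
  · subst e1; exact ⟨a2, d2⟩
  by_cases e2 : y = z'
  · subst e2; exact ⟨fun h => a1 h.symm, d1.symm⟩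
  exact class_step hG (mem_far.1 hy) (mem_far.1 hzf) (mem_far.1 hzf') e1 e2 hne a1 a2 d1 d2

theorem cls_eq {x y z : V} (hy : y ∈ far G x) (hz : z ∈ cls G x y) : cls G x z = cls G x y := by
  have hzf := (mem_cls.1 hz).1
  refine (eq_of_subset_of_card_le (fun w hw => ?_) (by rw [card_cls hG hy, card_cls hG hzf])).symm
  refine mem_cls.2 ⟨(mem_cls.1 hw).1, ?_⟩
  by_cases e : w = z
  · exact Or.inl e
  · exact Or.inr (cls_disjoint hG hy hz hw (Ne.symm e))

theorem cls_union {x y : V} (hy : y ∈ far G x) : (cls G x y).biUnion (cn G x) = nb G x := by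
  refine eq_of_subset_of_card_le (biUnion_subset.2 fun z _ => cn_subset hG x z) ?_
  rw [card_biUnion (fun z hz z' hz' hne => (cls_disjoint hG hy hz hz' hne).2),
    sum_congr rfl fun z hz => card_cn_four hG (mem_far.1 (mem_cls.1 hz).1).1.symm (mem_far.1 (mem_cls.1 hz).1).2,
    sum_const, card_cls hG hy, card_nb hG]
  rfl

theorem sum_cls {x y z : V} (hy : y ∈ far G x) (hz : z ∈ far G x) :
    ∑ w ∈ cls G x y, (cn G x z ∩ cn G x w).card = 4 := by
  rw [← card_biUnion fun w hw w' hw' hne => ((cls_disjoint hG hy hw hw' hne).2).mono inter_subset_right inter_subset_right,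
    ← inter_biUnion, cls_union hG hy, inter_eq_left.2 (cn_subset hG x z),
    card_cn_four hG (mem_far.1 hz).1.symm (mem_far.1 hz).2]

/-- How a block meets the blocks of another class. -/
theorem pattern {x y z : V} (hy : y ∈ far G x) (hz : z ∈ far G x) (hne : z ∉ cls G x y) :
    (∀ w ∈ cls G x y, (cn G x z ∩ cn G x w).card = 1) ∨
      ∀ w ∈ cls G x y, (cn G x z ∩ cn G x w).card = 0 ∨ (cn G x z ∩ cn G x w).card = 2 := by
  classical
  obtain ⟨hzx, hxz⟩ := mem_far.1 hz
  have hle : ∀ w ∈ cls G x y, (cn G x z ∩ cn G x w).card ≤ 2 := by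
    intro w hw
    obtain ⟨hwx, hxw⟩ := mem_far.1 (mem_cls.1 hw).1
    by_cases ha : G.Adj z w
    · rw [disjoint_iff_inter_eq_empty.1 (adj_disjoint hG (x := x) ha), card_empty]; omega
    · exact triple_le hG hzx.symm hwx.symm (fun e => hne (e ▸ hw)) hxz hxw ha
  by_contra hcon
  rw [not_or] at hcon
  simp only [not_forall] at hcon
  obtain ⟨⟨w1, hw1, h1⟩, w2, hw2, h2⟩ := hcon
  set O := (cls G x y).filter fun w => (cn G x z ∩ cn G x w).card = 1 with hO
  set T := (cls G x y).filter fun w => (cn G x z ∩ cn G x w).card = 2 with hT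
  have hsum : O.card + 2 * T.card = 4 := by
    rw [hO, hT, card_filter, card_filter, mul_sum, ← sum_add_distrib]
    refine Eq.trans (sum_congr rfl fun w hw => ?_) (sum_cls hG hy hz)
    have := hle w hw
    rcases (show (cn G x z ∩ cn G x w).card = 0 ∨ (cn G x z ∩ cn G x w).card = 1 ∨
      (cn G x z ∩ cn G x w).card = 2 by omega) with e | e | e <;> simp [e]
  have hO1 : 0 < O.card := card_pos.2 ⟨w2, mem_filter.2 ⟨hw2, by have := hle w2 hw2; omega⟩⟩
  have hO4 : O.card < 4 := by
    have hs : O ⊂ cls G x y := (ssubset_iff_of_subset (filter_subset _ _)).2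
      ⟨w1, hw1, fun h => h1 (mem_filter.1 h).2⟩
    have := card_lt_card hs
    rw [card_cls hG hy] at this
    exact this
  obtain ⟨b, c, hbc, hO2⟩ := card_eq_two.1 (show O.card = 2 by omega)
  obtain ⟨a, hT1⟩ := card_eq_one.1 (show T.card = 1 by omega)
  obtain ⟨ha, ta⟩ := mem_filter.1 (show a ∈ T by rw [hT1]; exact mem_singleton_self a)
  obtain ⟨hb, tb⟩ := mem_filter.1 (show b ∈ O by rw [hO2]; simp)
  obtain ⟨hc, tc⟩ := mem_filter.1 (show c ∈ O by rw [hO2]; simp)
  have nab : a ≠ b := fun e => by rw [e, tb] at ta; omega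
  have nac : a ≠ c := fun e => by rw [e, tc] at ta; omega
  obtain ⟨jab, dab⟩ := cls_disjoint hG hy ha hb nab
  obtain ⟨jac, dac⟩ := cls_disjoint hG hy ha hc nac
  obtain ⟨jbc, dbc⟩ := cls_disjoint hG hy hb hc hbc
  exact no_mixed hG ⟨hzx, hxz⟩ (mem_far.1 (mem_cls.1 ha).1) (mem_far.1 (mem_cls.1 hb).1)
    (mem_far.1 (mem_cls.1 hc).1) nab nac hbc dab dac dbc jab jac jbc ta tb tc

theorem cn_injOn {x y z : V} (hy : y ∈ far G x) (hz : z ∈ far G x) (h : cn G x y = cn G x z) : y = z := by
  by_contra hne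
  obtain ⟨hyx, hxy⟩ := mem_far.1 hy
  obtain ⟨hzx, hxz⟩ := mem_far.1 hz
  have h4 := card_cn_four hG hyx.symm hxy
  by_cases ha : G.Adj y z
  · have := disjoint_iff_inter_eq_empty.1 (adj_disjoint hG (x := x) ha)
    rw [← h, inter_self] at this
    rw [this] at h4; simp at h4
  · have := triple_le hG hyx.symm hzx.symm hne hxy hxz ha
    rw [← h, inter_self] at this
    omega

theorem adj_far_iff {x y z : V} (hz : z ∈ far G x) :
    G.Adj y z ↔ z ∉ cls G x y ∧ Disjoint (cn G x y) (cn G x z) := by
  constructor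
  · intro h
    refine ⟨fun hc => ?_, adj_disjoint hG h⟩
    rcases (mem_cls.1 hc).2 with e | ⟨e, -⟩
    · exact G.irrefl (e ▸ h)
    · exact e h
  · rintro ⟨h1, h2⟩
    by_contra hc
    exact h1 (mem_cls.2 ⟨hz, Or.inr ⟨hc, h2⟩⟩)

/-- A pair of classes meeting each other in single points. -/
theorem exists_grid (x : V) : ∃ y ∈ far G x, ∃ z ∈ far G x, z ∉ cls G x y ∧
    ∀ a ∈ cls G x y, ∀ b ∈ cls G x z, (cn G x a ∩ cn G x b).card = 1 := by
  classical
  obtain ⟨y, hy⟩ := card_pos.1 (show 0 < (far G x).card by rw [card_far hG]; norm_num)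
  obtain ⟨z, hz, hne, hone⟩ : ∃ z ∈ far G x, z ∉ cls G x y ∧ (cn G x y ∩ cn G x z).card = 1 := by
    by_contra hcon
    simp only [not_exists, not_and] at hcon
    have h4 := card_cn_four hG (mem_far.1 hy).1.symm (mem_far.1 hy).2
    have e : ∀ z ∈ far G x, ((cn G x y ∩ cn G x z).card : ℤ) * (cn G x y ∩ cn G x z).card =
        2 * (cn G x y ∩ cn G x z).card + 8 * indZ (z = y) := by
      intro z hz
      by_cases hzy : z = y
      · subst hzy; simp [indZ, h4]
      · rw [indZ, if_neg hzy]
        by_cases hc : z ∈ cls G x y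
        · rw [disjoint_iff_inter_eq_empty.1 (cls_disjoint hG hy (self_mem_cls hy) hc (Ne.symm hzy)).2]; simp
        · rcases pattern hG hy hz hc with h | h
          · have := h y (self_mem_cls hy)
            rw [inter_comm] at this
            exact absurd this (hcon z hz hc)
          · have := h y (self_mem_cls hy)
            rw [inter_comm] at this
            rcases this with e | e <;> rw [e] <;> norm_num
    have hexp : ∀ z, ((cn G x y ∩ cn G x z).card : ℤ) = ∑ p ∈ cn G x y, if p ∈ cn G x z then (1 : ℤ) else 0 :=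
      fun z => by rw [Finset.sum_boole, filter_mem_eq_inter]
    have t1 : ∑ z ∈ far G x, ((cn G x y ∩ cn G x z).card : ℤ) = 60 := by
      simp only [hexp]
      rw [sum_comm]
      simp only [Finset.sum_boole]
      rw [sum_congr rfl fun p hp => show (((far G x).filter fun z => p ∈ cn G x z).card : ℤ) = 15 by
        rw [count_point hG (cn_subset hG x y hp)]; rfl]
      rw [sum_const, h4]; norm_num
    have t2 : ∑ z ∈ far G x, ((cn G x y ∩ cn G x z).card : ℤ) * (cn G x y ∩ cn G x z).card = 96 := by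
      simp only [hexp, sum_mul_sum, ite_mul, one_mul, zero_mul, ← ite_and]
      rw [sum_comm]
      rw [sum_congr rfl fun p hp => show (∑ z ∈ far G x, ∑ q ∈ cn G x y,
          if p ∈ cn G x z ∧ q ∈ cn G x z then (1 : ℤ) else 0) = 24 by
        rw [sum_comm, ← add_sum_erase _ _ hp]
        simp only [and_self, Finset.sum_boole, count_point hG (cn_subset hG x y hp)]
        rw [sum_congr rfl fun q hq => show (((far G x).filter fun z => p ∈ cn G x z ∧ q ∈ cn G x z).card : ℤ) = 3 by
          rw [count_pair hG (cn_subset hG x y hp) (cn_subset hG x y (mem_of_mem_erase hq))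
            (Ne.symm (ne_of_mem_erase hq))]; rfl]
        rw [sum_const, card_erase_of_mem hp, h4]
        norm_num]
      rw [sum_const, h4]; norm_num
    have h := sum_congr rfl e
    rw [t2, sum_add_distrib, ← mul_sum, t1, ← mul_sum, sum_indZ, filter_eq', if_pos hy, card_singleton] at h
    norm_num at h
  refine ⟨y, hy, z, hz, hne, fun a ha b hb => ?_⟩
  have hcz : cls G x z ≠ cls G x y := fun e => hne (e ▸ self_mem_cls hz)
  -- the row of `z` in the class of `y`
  have hzrow : ∀ w ∈ cls G x y, (cn G x z ∩ cn G x w).card = 1 := by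
    rcases pattern hG hy hz hne with h | h
    · exact h
    · have := h y (self_mem_cls hy)
      rw [inter_comm, hone] at this
      omega
  have haf := (mem_cls.1 ha).1
  have hna : a ∉ cls G x z := fun h => hcz ((cls_eq hG hz h).symm.trans (cls_eq hG hy ha))
  rcases pattern hG hz haf hna with h | h
  · exact h b hb
  · have := h z (self_mem_cls hz)
    rw [inter_comm, hzrow a ha] at this
    omega

/-- Labelling onto the model. -/
theorem exists_label (x : V) : ∃ lam : V → ℕ, (∀ p ∈ nb G x, lam p < 16) ∧ Set.InjOn lam ↑(nb G x) ∧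
    ∀ y ∈ far G x, ∃ C ∈ canon, ∀ z ∈ cls G x y, encSet ((cn G x z).image lam) ∈ C := by
  classical
  obtain ⟨y, hy, y', hy', hne, hgrid⟩ := exists_grid hG x
  set e : Fin 4 → V := fun i => (((cls G x y).equivFinOfCardEq (card_cls hG hy)).symm i).1 with hedef
  set e' : Fin 4 → V := fun i => (((cls G x y').equivFinOfCardEq (card_cls hG hy')).symm i).1 with he'def
  have heinj : Function.Injective e := Subtype.val_injective.comp (Equiv.injective _)
  have he'inj : Function.Injective e' := Subtype.val_injective.comp (Equiv.injective _)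
  have hemem : ∀ i, e i ∈ cls G x y := fun i => Subtype.prop _
  have he'mem : ∀ i, e' i ∈ cls G x y' := fun i => Subtype.prop _
  have hesurj : ∀ z ∈ cls G x y, ∃ i, e i = z := fun z hz =>
    ⟨(cls G x y).equivFinOfCardEq (card_cls hG hy) ⟨z, hz⟩, by simp [hedef]⟩
  have he'surj : ∀ z ∈ cls G x y', ∃ i, e' i = z := fun z hz =>
    ⟨(cls G x y').equivFinOfCardEq (card_cls hG hy') ⟨z, hz⟩, by simp [he'def]⟩
  set lab : V → ℕ := fun p => 4 * (∑ i : Fin 4, if p ∈ cn G x (e i) then i.val else 0) +
    ∑ j : Fin 4, if p ∈ cn G x (e' j) then j.val else 0 with hlab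
  have hval : ∀ p i j, p ∈ cn G x (e i) → p ∈ cn G x (e' j) → lab p = 4 * i.val + j.val := by
    intro p i j hi hj
    simp only [hlab]
    rw [sum_eq_single i, sum_eq_single j, if_pos hi, if_pos hj]
    · intro k _ hk
      exact if_neg fun h => disjoint_left.1 (cls_disjoint hG hy' (he'mem k) (he'mem j) (he'inj.ne hk)).2 h hj
    · simp
    · intro k _ hk
      exact if_neg fun h => disjoint_left.1 (cls_disjoint hG hy (hemem k) (hemem i) (heinj.ne hk)).2 h hi
    · simp
  have hrc : ∀ p ∈ nb G x, ∃ i j, p ∈ cn G x (e i) ∧ p ∈ cn G x (e' j) := by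
    intro p hp
    obtain ⟨a, ha, hpa⟩ := mem_biUnion.1 (cls_union hG hy ▸ hp : p ∈ (cls G x y).biUnion (cn G x))
    obtain ⟨b, hb, hpb⟩ := mem_biUnion.1 (cls_union hG hy' ▸ hp : p ∈ (cls G x y').biUnion (cn G x))
    obtain ⟨i, rfl⟩ := hesurj a ha
    obtain ⟨j, rfl⟩ := he'surj b hb
    exact ⟨i, j, hpa, hpb⟩
  have hlt : ∀ p ∈ nb G x, lab p < 16 := by
    intro p hp
    obtain ⟨i, j, hi, hj⟩ := hrc p hp
    rw [hval p i j hi hj]
    omega
  have hinj : Set.InjOn lab ↑(nb G x) := by
    intro p hp q hq h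
    obtain ⟨i, j, hi, hj⟩ := hrc p hp
    obtain ⟨k, l, hk, hl⟩ := hrc q hq
    rw [hval p i j hi hj, hval q k l hk hl] at h
    obtain rfl : i = k := Fin.ext (by omega)
    obtain rfl : j = l := Fin.ext (by omega)
    obtain ⟨r, hr⟩ := card_eq_one.1 (hgrid _ (hemem i) _ (he'mem j))
    have a1 : p ∈ cn G x (e i) ∩ cn G x (e' j) := mem_inter.2 ⟨hi, hj⟩
    have a2 : q ∈ cn G x (e i) ∩ cn G x (e' j) := mem_inter.2 ⟨hk, hl⟩
    rw [hr, mem_singleton] at a1 a2
    rw [a1, a2]
  set im : V → Finset ℕ := fun z => (cn G x z).image lab with him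
  set qm : V → ℕ := fun z => encSet (im z) with hqm
  have hsub : ∀ z, im z ⊆ range 16 := fun z i hi => by
    obtain ⟨p, hp, rfl⟩ := mem_image.1 hi
    exact mem_range.2 (hlt p (cn_subset hG x z hp))
  have hland : ∀ z w, Nat.land (qm z) (qm w) = encSet ((cn G x z ∩ cn G x w).image lab) := fun z w => by
    rw [encSet_inter, image_inter_of_injOn _ _ (hinj.mono (by
      intro p hp
      rcases hp with h | h <;> exact cn_subset hG x _ h))]
  have hcardim : ∀ s, s ⊆ nb G x → (s.image lab).card = s.card := fun s hs =>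
    card_image_of_injOn (hinj.mono hs)
  have him4 : ∀ z ∈ far G x, (im z).card = 4 := fun z hz => by
    rw [him, hcardim _ (cn_subset hG x z), card_cn_four hG (mem_far.1 hz).1.symm (mem_far.1 hz).2]
  have hqinj : ∀ z ∈ far G x, ∀ w ∈ far G x, qm z = qm w → z = w := by
    intro z hz w hw h
    refine cn_injOn hG hz hw (Finset.ext fun p => ?_)
    have h' := encSet_injective h
    constructor <;> intro hp
    · obtain ⟨q, hq, he⟩ := mem_image.1 (h' ▸ mem_image_of_mem lab hp : lab p ∈ im w)
      rwa [hinj (cn_subset hG x w hq) (cn_subset hG x z hp) he] at hq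
    · obtain ⟨q, hq, he⟩ := mem_image.1 (h'.symm ▸ mem_image_of_mem lab hp : lab p ∈ im z)
      rwa [hinj (cn_subset hG x z hq) (cn_subset hG x w hp) he] at hq
  have hrow : ∀ i, qm (e i) = rowBlocks.getD i.val 0 := by
    intro i
    have h : im (e i) = (range 16).filter fun k => k / 4 = i.val := by
      refine eq_of_subset_of_card_le (fun k hk => ?_) ?_
      · refine mem_filter.2 ⟨hsub _ hk, ?_⟩
        obtain ⟨p, hp, rfl⟩ := mem_image.1 hk
        obtain ⟨-, j, -, hj⟩ := hrc p (cn_subset hG x _ hp)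
        rw [hval p i j hp hj]
        omega
      · rw [him4 _ (mem_cls.1 (hemem i)).1]
        revert i; decide
    simp only [hqm, h]
    clear h; revert i; decide
  have hcol : ∀ j, qm (e' j) = colBlocks.getD j.val 0 := by
    intro j
    have h : im (e' j) = (range 16).filter fun k => k % 4 = j.val := by
      refine eq_of_subset_of_card_le (fun k hk => ?_) ?_
      · refine mem_filter.2 ⟨hsub _ hk, ?_⟩
        obtain ⟨p, hp, rfl⟩ := mem_image.1 hk
        obtain ⟨i, -, hi, -⟩ := hrc p (cn_subset hG x _ hp)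
        rw [hval p i j hi hp]
        omega
      · rw [him4 _ (mem_cls.1 (he'mem j)).1]
        revert j; decide
    simp only [hqm, h]
    clear h; revert j; decide
  have hok : ∀ a ∈ far G x, ∀ w ∈ far G x, w ∉ cls G x a → ∀ (P : List ℕ),
      (∀ q, q ∈ P ↔ q ∈ (cls G x a).image qm) → okPat (qm w) P = true := by
    intro a ha w hw hn P hP
    simp only [okPat, Bool.or_eq_true, List.all_eq_true]
    have hs : ∀ b, (cn G x w ∩ cn G x b).image lab ⊆ range 16 := fun b i hi => by
      obtain ⟨p, hp, rfl⟩ := mem_image.1 hi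
      exact mem_range.2 (hlt p (cn_subset hG x w (mem_inter.1 hp).1))
    have hc : ∀ b, ((cn G x w ∩ cn G x b).image lab).card = (cn G x w ∩ cn G x b).card := fun b =>
      hcardim _ (inter_subset_left.trans (cn_subset hG x w))
    rcases pattern hG ha hw hn with h | h
    · left
      intro q hq
      obtain ⟨b, hb, rfl⟩ := mem_image.1 ((hP q).1 hq)
      rw [hland]
      exact oneBit_of_card (hs b) (by rw [hc]; exact h b hb)
    · right
      intro q hq
      obtain ⟨b, hb, rfl⟩ := mem_image.1 ((hP q).1 hq)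
      rw [hland]
      exact zeroTwo_of_card (hs b) (by rw [hc]; exact h b hb)
  have hrowP : ∀ q, q ∈ rowBlocks ↔ q ∈ (cls G x y).image qm := by
    intro q
    constructor
    · intro hq
      obtain ⟨i, hi, rfl⟩ := List.getElem_of_mem hq
      refine mem_image.2 ⟨e ⟨i, hi⟩, hemem _, ?_⟩
      rw [hrow, List.getD_eq_getElem _ _ hi]
    · intro hq
      obtain ⟨a, ha, rfl⟩ := mem_image.1 hq
      obtain ⟨i, rfl⟩ := hesurj a ha
      rw [hrow]
      exact getD_mem i.isLt
  have hcolP : ∀ q, q ∈ colBlocks ↔ q ∈ (cls G x y').image qm := by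
    intro q
    constructor
    · intro hq
      obtain ⟨i, hi, rfl⟩ := List.getElem_of_mem hq
      refine mem_image.2 ⟨e' ⟨i, hi⟩, he'mem _, ?_⟩
      rw [hcol, List.getD_eq_getElem _ _ hi]
    · intro hq
      obtain ⟨a, ha, rfl⟩ := mem_image.1 hq
      obtain ⟨i, rfl⟩ := he'surj a ha
      rw [hcol]
      exact getD_mem i.isLt
  -- the index of a class
  have hidx : ∀ a ∈ far G x, ∃ i < 161, ∀ q, q ∈ part i ↔ q ∈ (cls G x a).image qm := by
    intro a ha
    by_cases ey : a ∈ cls G x y
    · refine ⟨159, by norm_num, fun q => ?_⟩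
      rw [grid_spec.1, hrowP, cls_eq hG hy ey]
    by_cases ey' : a ∈ cls G x y'
    · refine ⟨160, by norm_num, fun q => ?_⟩
      rw [grid_spec.2.1, hcolP, cls_eq hG hy' ey']
    set F := (cls G x a).image qm with hF
    have hFQ : ∀ q ∈ F, q ∈ blocks ∧ q ≠ 0 := by
      intro q hq
      obtain ⟨w, hw, rfl⟩ := mem_image.1 hq
      have hwf := (mem_cls.1 hw).1
      have n1 : w ∉ cls G x y := fun h =>
        ey (by rw [← cls_eq hG hy h, cls_eq hG ha hw]; exact self_mem_cls ha)
      have n2 : w ∉ cls G x y' := fun h =>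
        ey' (by rw [← cls_eq hG hy' h, cls_eq hG ha hw]; exact self_mem_cls ha)
      refine ⟨List.mem_filter.2 ⟨encSet_mem_gen 16 4 _ (hsub w) (him4 w hwf), ?_⟩, fun h0 => ?_⟩
      · rw [hok y hy w hwf n1 _ hrowP, hok y' hy' w hwf n2 _ hcolP]; rfl
      · have := him4 w hwf
        rw [encSet_eq_zero.1 h0] at this
        simp at this
    obtain ⟨l, hl, hl'⟩ := ext_complete blocks 4 65535 F
      ((card_image_le).trans (by rw [card_cls hG ha])) hFQ
      (by
        intro q hq r hr hqr
        obtain ⟨w, hw, rfl⟩ := mem_image.1 hq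
        obtain ⟨w', hw', rfl⟩ := mem_image.1 hr
        rw [hland, disjoint_iff_inter_eq_empty.1 (cls_disjoint hG ha hw hw' fun e => hqr (by rw [e])).2,
          image_empty]
        exact encSet_eq_zero.2 rfl)
      (by
        intro i
        rw [show (65535 : ℕ) = 2 ^ 16 - 1 from rfl, Nat.testBit_two_pow_sub_one, decide_eq_true_iff]
        have hall : (nb G x).image lab = range 16 := eq_of_subset_of_card_le
          (fun k hk => by obtain ⟨p, hp, rfl⟩ := mem_image.1 hk; exact mem_range.2 (hlt p hp))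
          (by rw [hcardim _ (Subset.refl _), card_nb hG, card_range])
        rw [← mem_range, ← hall, ← cls_union hG ha, biUnion_image]
        simp only [mem_biUnion, hF, mem_image (f := qm)]
        constructor
        · rintro ⟨w, hw, hi⟩
          exact ⟨qm w, ⟨w, hw, rfl⟩, (testBit_encSet _ _).2 hi⟩
        · rintro ⟨_, ⟨w, hw, rfl⟩, hi⟩
          exact ⟨w, hw, (testBit_encSet _ _).1 hi⟩)
    have hcomp : (compat l rowBlocks && compat l colBlocks) = true := by
      simp only [compat, Bool.and_eq_true, List.all_eq_true]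
      have key : ∀ b ∈ far G x, a ∉ cls G x b → ∀ (P : List ℕ), (∀ q, q ∈ P ↔ q ∈ (cls G x b).image qm) →
          (∀ q ∈ l, okPat q P = true) ∧ ∀ q ∈ P, okPat q l = true := by
        intro b hb hab P hP
        constructor
        · intro q hq
          obtain ⟨w, hw, rfl⟩ := mem_image.1 ((hl' q).1 hq)
          exact hok b hb w (mem_cls.1 hw).1 (fun h => hab (by
            rw [← cls_eq hG hb h, cls_eq hG ha hw]; exact self_mem_cls ha)) P hP
        · intro q hq
          obtain ⟨w, hw, rfl⟩ := mem_image.1 ((hP q).1 hq)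
          exact hok a ha w (mem_cls.1 hw).1 (fun h => hab (by
            rw [← cls_eq hG hb hw, cls_eq hG ha h]; exact self_mem_cls ha)) l hl'
      exact ⟨key y hy ey rowBlocks hrowP, key y' hy' ey' colBlocks hcolP⟩
    have hsp := List.all_eq_true.1 parts_spec l (List.mem_filter.2 ⟨hl, hcomp⟩)
    simp only [Bool.or_eq_true, List.all_eq_true, List.contains_iff_mem, List.any_eq_true, List.mem_range,
      beq_iff_eq] at hsp
    have bad : ∀ b ∈ far G x, a ∉ cls G x b → ∀ (P : List ℕ), (∀ q, q ∈ P ↔ q ∈ (cls G x b).image qm) →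
        ¬ ∀ q ∈ l, q ∈ P := by
      intro b hb hab P hP h
      obtain ⟨w, hw, he⟩ := mem_image.1 ((hP _).1 (h _ ((hl' _).2 (mem_image_of_mem qm (self_mem_cls ha)))))
      exact hab (hqinj w (mem_cls.1 hw).1 a ha he ▸ hw)
    rcases hsp with (h | h) | ⟨i, hi, h⟩
    · exact absurd h (bad y hy ey rowBlocks hrowP)
    · exact absurd h (bad y' hy' ey' colBlocks hcolP)
    · exact ⟨i, by omega, fun q => by rw [h]; exact hl' q⟩
  choose! idx hidx161 hidxmem using hidx
  have idx_eq : ∀ a ∈ far G x, ∀ b ∈ far G x, b ∈ cls G x a ↔ (∀ q, q ∈ part (idx a) ↔ q ∈ part (idx b)) := by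
    intro a ha b hb
    constructor
    · intro h q
      rw [hidxmem a ha, hidxmem b hb, cls_eq hG ha h]
    · intro h
      obtain ⟨w, hw, he⟩ := mem_image.1
        ((hidxmem a ha _).1 ((h _).2 ((hidxmem b hb _).2 (mem_image_of_mem qm (self_mem_cls hb)))))
      exact hqinj w (mem_cls.1 hw).1 b hb he ▸ hw
  -- one index for each class
  set CL := (far G x).image (cls G x) with hCL
  have hrep : ∀ c ∈ CL, ∃ a ∈ far G x, cls G x a = c := fun c hc => mem_image.1 hc
  haveI : Nonempty V := ⟨x⟩
  choose! rep hrepf hrepc using hrep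
  set S := CL.image fun c => idx (rep c) with hS
  have hinjS : Set.InjOn (fun c => idx (rep c)) ↑CL := by
    intro c hc d hd h
    have := (idx_eq _ (hrepf c hc) _ (hrepf d hd)).2 (fun q => by simp only at h; rw [h])
    rw [← hrepc c hc, ← hrepc d hd, cls_eq hG (hrepf c hc) this]
  have hCL15 : CL.card = 15 := by
    have h := card_eq_sum_card_image (cls G x) (far G x)
    rw [card_far hG, ← hCL, sum_congr rfl fun c hc => show ((far G x).filter fun a => cls G x a = c).card = 4 by
      rw [← card_cls hG (hrepf c hc)]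
      congr 1
      ext a
      simp only [mem_filter]
      constructor
      · rintro ⟨ha, he⟩
        rw [hrepc c hc, ← he]; exact self_mem_cls ha
      · intro ha
        exact ⟨(mem_cls.1 ha).1, by rw [cls_eq hG (hrepf c hc) ha, hrepc c hc]⟩] at h
    rw [sum_const, smul_eq_mul] at h
    omega
  have memS : ∀ i ∈ S, ∃ c ∈ CL, idx (rep c) = i ∧ ∀ q, q ∈ part i ↔ q ∈ c.image qm := by
    intro i hi
    obtain ⟨c, hc, rfl⟩ := mem_image.1 hi
    exact ⟨c, hc, rfl, fun q => by rw [hidxmem _ (hrepf c hc), hrepc c hc]⟩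
  have hy_idx : idx (rep (cls G x y)) = 159 ∧ idx (rep (cls G x y')) = 160 := by
    have key : ∀ b ∈ far G x, ∀ k, k = 159 ∨ k = 160 → (∀ q, q ∈ part k ↔ q ∈ (cls G x b).image qm) →
        idx (rep (cls G x b)) = k := by
      intro b hb k hk hkq
      have hc : cls G x b ∈ CL := mem_image_of_mem _ hb
      set j := idx (rep (cls G x b)) with hj
      have hj161 : j < 161 := hidx161 _ (hrepf _ hc)
      have hjq : ∀ q, q ∈ part j ↔ q ∈ part k := fun q => by
        rw [hidxmem _ (hrepf _ hc), hrepc _ hc, hkq]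
      have hcheck : (List.range 161).all (fun i => i == 159 || i == 160 ||
          ((!(part i).all fun q => (part 159).contains q) && !(part i).all fun q => (part 160).contains q)) = true := by
        decide +kernel
      have hcross : ((part 159).all fun q => (part 160).contains q) = false ∧
          ((part 160).all fun q => (part 159).contains q) = false := by decide +kernel
      have h := List.all_eq_true.1 hcheck j (List.mem_range.2 hj161)
      simp only [Bool.or_eq_true, beq_iff_eq, Bool.and_eq_true, Bool.not_eq_true'] at h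
      have hall : ((part j).all fun q => (part k).contains q) = true := by
        rw [List.all_eq_true]; intro q hq; rw [List.contains_iff_mem, ← hjq]; exact hq
      rcases hk with rfl | rfl
      · rcases h with (h | h) | h
        · exact h
        · rw [h, hcross.2] at hall; exact Bool.noConfusion hall
        · rw [h.1] at hall; exact Bool.noConfusion hall
      · rcases h with (h | h) | h
        · rw [h, hcross.1] at hall; exact Bool.noConfusion hall
        · exact h
        · rw [h.2] at hall; exact Bool.noConfusion hall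
    exact ⟨key y hy 159 (Or.inl rfl) fun q => by rw [grid_spec.1]; exact hrowP q,
      key y' hy' 160 (Or.inr rfl) fun q => by rw [grid_spec.2.1]; exact hcolP q⟩
  have hne_cls : ∀ i ∈ S, ∀ j ∈ S, i ≠ j → ∀ c d, (∀ q, q ∈ part i ↔ q ∈ c.image qm) → c ∈ CL → d ∈ CL →
      idx (rep c) = i → idx (rep d) = j → c ≠ d := by
    intro i _ j _ hij c d _ _ _ hc hd e
    exact hij (by rw [← hc, ← hd, e])
  have hnotin : ∀ c ∈ CL, ∀ d ∈ CL, c ≠ d → ∀ w ∈ c, w ∉ d := by
    intro c hc d hd hcd w hw hw'
    obtain ⟨a, ha, rfl⟩ := mem_image.1 hc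
    obtain ⟨b, hb, rfl⟩ := mem_image.1 hd
    exact hcd (by rw [← cls_eq hG ha hw, cls_eq hG hb hw'])
  have hfam : Family S := by
    refine ⟨?_, ?_, fun i hi => ?_, ?_, ?_, ?_, ?_⟩
    · exact mem_image.2 ⟨_, mem_image_of_mem _ hy, hy_idx.1⟩
    · exact mem_image.2 ⟨_, mem_image_of_mem _ hy', hy_idx.2⟩
    · obtain ⟨c, hc, rfl, -⟩ := memS i hi
      exact hidx161 _ (hrepf c hc)
    · rw [hS, card_image_of_injOn hinjS, hCL15]
    · intro m hm
      obtain ⟨a, b, ha, hb, hab, rfl⟩ := pair_mask hm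
      have hall : (nb G x).image lab = range 16 := eq_of_subset_of_card_le
        (fun k hk => by obtain ⟨p, hp, rfl⟩ := mem_image.1 hk; exact mem_range.2 (hlt p hp))
        (by rw [hcardim _ (Subset.refl _), card_nb hG, card_range])
      obtain ⟨p, hp, rfl⟩ := mem_image.1 (hall.symm ▸ mem_range.2 ha : a ∈ (nb G x).image lab)
      obtain ⟨q, hq, rfl⟩ := mem_image.1 (hall.symm ▸ mem_range.2 hb : b ∈ (nb G x).image lab)
      rw [← count_pair hG hp hq (fun e => hab (by rw [e]))]
      have hcov : ∀ w, (Nat.land (qm w) (encSet {lab p, lab q}) == encSet {lab p, lab q}) = true ↔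
          p ∈ cn G x w ∧ q ∈ cn G x w := by
        intro w
        rw [beq_iff_eq, encSet_inter, encSet_injective.eq_iff, inter_eq_right, insert_subset_iff,
          singleton_subset_iff, him, mem_image, mem_image]
        constructor
        · rintro ⟨⟨p', hp', e1⟩, q', hq', e2⟩
          rw [hinj (cn_subset hG x w hp') hp e1] at hp'
          rw [hinj (cn_subset hG x w hq') hq e2] at hq'
          exact ⟨hp', hq'⟩
        · exact fun h => ⟨⟨p, h.1, rfl⟩, q, h.2, rfl⟩
      symm
      refine card_bij (fun w _ => idx (rep (cls G x w))) (fun w hw => ?_) (fun w hw w' hw' h => ?_) fun i hi => ?_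
      · obtain ⟨hwf, hpq⟩ := mem_filter.1 hw
        refine mem_filter.2 ⟨mem_image_of_mem (fun c => idx (rep c)) (mem_image_of_mem _ hwf), ?_⟩
        simp only [cover, List.any_eq_true]
        refine ⟨qm w, ?_, (hcov w).2 hpq⟩
        rw [hidxmem _ (hrepf _ (mem_image_of_mem _ hwf)), hrepc _ (mem_image_of_mem _ hwf)]
        exact mem_image_of_mem qm (self_mem_cls hwf)
      · obtain ⟨hwf, hpq⟩ := mem_filter.1 hw
        obtain ⟨hwf', hpq'⟩ := mem_filter.1 hw'
        have e := hinjS (mem_image_of_mem _ hwf) (mem_image_of_mem _ hwf') h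
        by_contra hne
        exact disjoint_left.1 (cls_disjoint hG hwf (self_mem_cls hwf) (e.symm ▸ self_mem_cls hwf') hne).2 hpq.1 hpq'.1
      · obtain ⟨hiS, hc'⟩ := mem_filter.1 hi
        obtain ⟨c, hc, rfl, hmem⟩ := memS i hiS
        simp only [cover, List.any_eq_true] at hc'
        obtain ⟨m, hm', he⟩ := hc'
        obtain ⟨w, hw, rfl⟩ := mem_image.1 ((hmem m).1 hm')
        obtain ⟨a', ha', rfl⟩ := mem_image.1 hc
        refine ⟨w, mem_filter.2 ⟨(mem_cls.1 hw).1, (hcov w).1 he⟩, ?_⟩
        show idx (rep (cls G x w)) = _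
        rw [cls_eq hG ha' hw]
    · intro i hi j hj hij q hq
      obtain ⟨c, hc, hci, hcm⟩ := memS i hi
      obtain ⟨d, hd, hdj, hdm⟩ := memS j hj
      obtain ⟨w, hw, rfl⟩ := mem_image.1 ((hcm q).1 hq)
      have hcd : c ≠ d := hne_cls i hi j hj hij c d hcm hc hd hci hdj
      have hwd := hnotin c hc d hd hcd w hw
      rw [← hrepc d hd] at hwd hdm
      rw [← hrepc c hc] at hw
      exact hok _ (hrepf d hd) w (mem_cls.1 hw).1 hwd _ hdm
    · intro i hi j hj l hl hij hil hjl q hq r hr s hs
      obtain ⟨c, hc, hci, hcm⟩ := memS i hi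
      obtain ⟨d, hd, hdj, hdm⟩ := memS j hj
      obtain ⟨f, hf, hfl, hfm⟩ := memS l hl
      obtain ⟨u, hu, rfl⟩ := mem_image.1 ((hcm q).1 hq)
      obtain ⟨v, hv, rfl⟩ := mem_image.1 ((hdm r).1 hr)
      obtain ⟨w, hw, rfl⟩ := mem_image.1 ((hfm s).1 hs)
      have huf : u ∈ far G x ∧ v ∈ far G x ∧ w ∈ far G x := by
        rw [← hrepc c hc] at hu; rw [← hrepc d hd] at hv; rw [← hrepc f hf] at hw
        exact ⟨(mem_cls.1 hu).1, (mem_cls.1 hv).1, (mem_cls.1 hw).1⟩
      have adjOf : ∀ c ∈ CL, ∀ d ∈ CL, c ≠ d → ∀ u ∈ c, ∀ v ∈ d, v ∈ far G x →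
          Nat.land (qm u) (qm v) = 0 → G.Adj u v := by
        intro c hc d hd hcd u hu v hv hvf h0
        refine (adj_far_iff hG hvf).2 ⟨fun h => ?_, ?_⟩
        · obtain ⟨a, ha, rfl⟩ := mem_image.1 hc
          rw [cls_eq hG ha hu] at h
          exact hnotin _ (mem_image_of_mem _ ha) d hd hcd v h hv
        · rw [hland, encSet_eq_zero, image_eq_empty] at h0
          exact disjoint_iff_inter_eq_empty.2 h0
      rw [Bool.eq_false_iff]
      intro ht
      simp only [triple, Bool.and_eq_true, beq_iff_eq] at ht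
      have huv := adjOf c hc d hd (hne_cls i hi j hj hij c d hcm hc hd hci hdj) u hu v hv huf.2.1 ht.1.1
      have huw := adjOf c hc f hf (hne_cls i hi l hl hil c f hcm hc hf hci hfl) u hu w hw huf.2.2 ht.1.2
      have hvw := adjOf d hd f hf (hne_cls j hj l hl hjl d f hdm hd hf hdj hfl) v hv w hw huf.2.2 ht.2
      exact no_triangle hG huv huw hvw
  obtain ⟨s, hs, hcanon⟩ := classify hfam
  have hperm := List.all_eq_true.1 perm_spec s (List.mem_range.2 hs)
  simp only [Bool.and_eq_true, decide_eq_true_eq, List.all_eq_true] at hperm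
  obtain ⟨⟨hnd, hlen⟩, hlt16⟩ := hperm
  refine ⟨fun p => (perm s).getD (lab p) 0, fun p hp => ?_, fun p hp q hq h => ?_, fun a ha => ?_⟩
  · exact hlt16 _ (getD_mem (by rw [hlen]; exact hlt p hp))
  · refine hinj hp hq ?_
    simp only [List.getD_eq_getElem _ _ (show lab p < (perm s).length by rw [hlen]; exact hlt p hp),
      List.getD_eq_getElem _ _ (show lab q < (perm s).length by rw [hlen]; exact hlt q hq)] at h
    exact (hnd.getElem_inj_iff).1 h
  · have hc : cls G x a ∈ CL := mem_image_of_mem _ ha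
    obtain ⟨C, hC, hCq⟩ := hcanon (idx (rep (cls G x a))) (mem_image_of_mem (fun c => idx (rep c)) hc)
    refine ⟨C, hC, fun z hz => ?_⟩
    have := hCq (qm z) (by rw [hidxmem _ (hrepf _ hc), hrepc _ hc]; exact mem_image_of_mem qm hz)
    rw [hqm, permMask_encSet _ _ (hsub z), him, image_image] at this
    exact this

/-- Every such graph is the model. -/
theorem exists_model : ∃ f : V → Fin 77, Function.Bijective f ∧ ∀ u v, G.Adj u v ↔ modelRel (f u).val (f v).val := by
  classical
  obtain ⟨x⟩ : Nonempty V := Fintype.card_pos_iff.1 (by rw [hG.card]; norm_num)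
  obtain ⟨lam, hlt, hinj, hC⟩ := exists_label hG x
  set mk : V → ℕ := fun z => encSet ((cn G x z).image lam) with hmk
  obtain ⟨hflat, hflen, hfour⟩ := canon_spec
  have hmem : ∀ z ∈ far G x, mk z ∈ canon.flatten := fun z hz => by
    obtain ⟨C, hC1, hC2⟩ := hC z hz
    exact List.mem_flatten.2 ⟨C, hC1, hC2 z (self_mem_cls hz)⟩
  have hmkinj : ∀ z ∈ far G x, ∀ w ∈ far G x, mk z = mk w → z = w := by
    intro z hz w hw h
    refine cn_injOn hG hz hw (Finset.ext fun p => ?_)
    have h' := encSet_injective h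
    constructor <;> intro hp
    · obtain ⟨q, hq, he⟩ := mem_image.1 (h' ▸ mem_image_of_mem lam hp : lam p ∈ (cn G x w).image lam)
      rwa [hinj (cn_subset hG x w hq) (cn_subset hG x z hp) he] at hq
    · obtain ⟨q, hq, he⟩ := mem_image.1 (h'.symm ▸ mem_image_of_mem lam hp : lam p ∈ (cn G x z).image lam)
      rwa [hinj (cn_subset hG x z hq) (cn_subset hG x w hp) he] at hq
  set f : V → ℕ := fun u => if u = x then 0 else if G.Adj x u then 1 + lam u
    else 17 + canon.flatten.idxOf (mk u) with hf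
  have fx : f x = 0 := if_pos rfl
  have fp : ∀ p ∈ nb G x, f p = 1 + lam p := fun p hp => by
    have hxp := (mem_filter.1 hp).2
    rw [hf]; simp only
    rw [if_neg hxp.ne.symm, if_pos hxp]
  have fz : ∀ z ∈ far G x, f z = 17 + canon.flatten.idxOf (mk z) := fun z hz => by
    rw [hf]; simp only
    rw [if_neg (mem_far.1 hz).1, if_neg (mem_far.1 hz).2]
  have hget : ∀ z ∈ far G x, canon.flatten.getD (f z - 17) 0 = mk z ∧ 17 ≤ f z ∧ f z < 77 := fun z hz => by
    have hi := List.idxOf_lt_length_iff.2 (hmem z hz)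
    rw [fz z hz, Nat.add_sub_cancel_left, List.getD_eq_getElem _ _ hi, List.getElem_idxOf hi]
    exact ⟨rfl, by omega, by omega⟩
  have hcases : ∀ u, u = x ∨ u ∈ nb G x ∨ u ∈ far G x := fun u => by
    by_cases h1 : u = x
    · exact Or.inl h1
    · by_cases h2 : G.Adj x u
      · exact Or.inr (Or.inl (mem_filter.2 ⟨mem_univ _, h2⟩))
      · exact Or.inr (Or.inr (mem_far.2 ⟨h1, h2⟩))
  have hbd : ∀ u, f u < 77 := fun u => by
    rcases hcases u with rfl | h | h
    · rw [fx]; norm_num
    · rw [fp u h]; have := hlt u h; omega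
    · exact (hget u h).2.2
  have hfinj : Function.Injective f := by
    intro u v h
    rcases hcases u with rfl | hu | hu <;> rcases hcases v with rfl | hv | hv
    · rfl
    · rw [fx, fp v hv] at h; omega
    · rw [fx] at h; have := (hget v hv).2.1; omega
    · rw [fx, fp u hu] at h; omega
    · rw [fp u hu, fp v hv] at h
      exact hinj hu hv (by omega)
    · rw [fp u hu] at h; have := (hget v hv).2.1; have := hlt u hu; omega
    · rw [fx] at h; have := (hget u hu).2.1; omega
    · rw [fp v hv] at h; have := (hget u hu).2.1; have := hlt v hv; omega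
    · refine hmkinj u hu v hv ?_
      rw [← (hget u hu).1, ← (hget v hv).1, h]
  have hbit : ∀ p ∈ nb G x, ∀ z, (mk z).testBit (lam p) = true ↔ G.Adj p z := by
    intro p hp z
    rw [hmk, testBit_encSet, mem_image]
    constructor
    · rintro ⟨q, hq, he⟩
      rw [hinj (cn_subset hG x z hq) hp he] at hq
      exact (mem_filter.1 hq).2.2.symm
    · intro h
      exact ⟨p, mem_filter.2 ⟨mem_univ _, (mem_filter.1 hp).2, h.symm⟩, rfl⟩
  have hsame : ∀ z ∈ far G x, ∀ w ∈ far G x,
      (∃ C ∈ canon, mk z ∈ C ∧ mk w ∈ C) ↔ w ∈ cls G x z := by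
    intro z hz w hw
    obtain ⟨C, hC1, hC2⟩ := hC z hz
    refine ⟨?_, fun h => ⟨C, hC1, hC2 z (self_mem_cls hz), hC2 w h⟩⟩
    rintro ⟨D, hD, hzD, hwD⟩
    have hCD : D = C := by
      by_contra hne
      obtain ⟨i, hi, rfl⟩ := List.getElem_of_mem hD
      obtain ⟨j, hj, rfl⟩ := List.getElem_of_mem hC1
      have hp := List.pairwise_iff_getElem.1 (List.nodup_flatten.1 hflat).2
      rcases lt_trichotomy i j with hij | rfl | hij
      · exact List.disjoint_left.1 (hp i j hi hj hij) hzD (hC2 z (self_mem_cls hz))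
      · exact hne rfl
      · exact List.disjoint_left.1 (hp j i hj hi hij) (hC2 z (self_mem_cls hz)) hzD
    subst hCD
    have hsub : (cls G x z).image mk ⊆ D.toFinset := fun q hq => by
      obtain ⟨u, hu, rfl⟩ := mem_image.1 hq
      exact List.mem_toFinset.2 (hC2 u hu)
    have heq := eq_of_subset_of_card_le hsub (by
      rw [card_image_of_injOn (fun u hu v hv h => hmkinj u (mem_cls.1 hu).1 v (mem_cls.1 hv).1 h), card_cls hG hz]
      refine le_trans (List.toFinset_card_le _) (le_of_eq ?_)
      exact of_decide_eq_true (List.all_eq_true.1 hfour D hC1))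
    obtain ⟨u, hu, he⟩ := mem_image.1 (heq.symm ▸ List.mem_toFinset.2 hwD : mk w ∈ (cls G x z).image mk)
    exact hmkinj u (mem_cls.1 hu).1 w hw he ▸ hu
  refine ⟨fun u => ⟨f u, hbd u⟩, (Fintype.bijective_iff_injective_and_card _).2
    ⟨fun u v h => hfinj (by simpa using h), by rw [hG.card, Fintype.card_fin]⟩, fun u v => ?_⟩
  show G.Adj u v ↔ modelRel (f u) (f v)
  rcases hcases u with rfl | hu | hu <;> rcases hcases v with rfl | hv | hv
  · simp [modelRel, fx, G.irrefl]
  · have := hlt v hv
    rw [fx, fp v hv]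
    simp [modelRel, (mem_filter.1 hv).2]
    omega
  · have := (hget v hv).2.1
    rw [fx]
    simp [modelRel, (mem_far.1 hv).2]
    omega
  · have := hlt u hu
    rw [fx, fp u hu]
    simp [modelRel, G.adj_comm u, (mem_filter.1 hu).2]
    omega
  · have := hlt u hu; have := hlt v hv
    rw [fp u hu, fp v hv, modelRel, if_neg (by omega), if_neg (by omega), if_pos (by omega)]
    simp [no_triangle hG (mem_filter.1 hu).2 (mem_filter.1 hv).2]
    omega
  · have := hlt u hu
    obtain ⟨g1, g2, -⟩ := hget v hv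
    rw [fp u hu, modelRel, if_neg (by omega), if_neg (by omega), if_pos (by omega), g1, Nat.add_sub_cancel_left,
      hbit u hu v]
    exact ⟨fun h => ⟨g2, h⟩, fun h => h.2⟩
  · have := (hget u hu).2.1
    rw [fx, modelRel, if_neg (by omega), if_pos rfl]
    exact ⟨fun h => absurd h.symm (mem_far.1 hu).2, fun h => by omega⟩
  · have := hlt v hv
    obtain ⟨g1, g2, -⟩ := hget u hu
    rw [fp v hv, modelRel, if_neg (by omega), if_neg (by omega), if_neg (by omega), if_pos (by omega), g1,
      Nat.add_sub_cancel_left, hbit v hv u, G.adj_comm]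
  · obtain ⟨g1, g2, -⟩ := hget u hu
    obtain ⟨h1, h2, -⟩ := hget v hv
    rw [modelRel, if_neg (by omega), if_neg (by omega), if_neg (by omega), if_neg (by omega), g1, h1,
      hsame u hu v hv, adj_far_iff hG hv, hmk, encSet_inter, encSet_eq_zero,
      ← image_inter_of_injOn _ _ (hinj.mono (fun p hp => by rcases hp with h | h <;> exact cn_subset hG x _ h)),
      image_eq_empty, ← disjoint_iff_inter_eq_empty]
    exact and_comm

/-- Two such graphs are isomorphic. -/
theorem iso {W : Type*} [Fintype W] [DecidableEq W] {H : SimpleGraph W} [DecidableRel H.Adj]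
    (hH : H.IsSRGWith 77 16 0 4) : Nonempty (G ≃g H) := by
  obtain ⟨f, hf, hf'⟩ := exists_model hG
  obtain ⟨g, hg, hg'⟩ := exists_model hH
  refine ⟨{ toEquiv := (Equiv.ofBijective f hf).trans (Equiv.ofBijective g hg).symm, map_rel_iff' := ?_ }⟩
  intro u v
  show H.Adj ((Equiv.ofBijective g hg).symm (f u)) ((Equiv.ofBijective g hg).symm (f v)) ↔ G.Adj u v
  rw [hg', hf', Equiv.ofBijective_apply_symm_apply g hg, Equiv.ofBijective_apply_symm_apply g hg]

end Cfsg.Lib.Srg77
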